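import Mathlib

/-! A matrix identity for the Suzuki groups: a solution of `v₁ = v₂` on an explicit surface. -/

set_option autoImplicit false
set_option maxRecDepth 8000

namespace H10.BG
open Matrix

variable {F : Type*} [Field F]

/-- unitriangular matrices -/
def U (a b c d e f : F) : Matrix (Fin 4) (Fin 4) F := !![1, a, b, c; 0, 1, d, e; 0, 0, 1, f; 0, 0, 0, 1]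

/-- the antidiagonal matrix -/
def Jm : Matrix (Fin 4) (Fin 4) F := !![0, 0, 0, 1; 0, 0, 1, 0; 0, 1, 0, 0; 1, 0, 0, 0]

theorem mul4 (x00 x01 x02 x03 x10 x11 x12 x13 x20 x21 x22 x23 x30 x31 x32 x33 y00 y01 y02 y03 y10 y11 y12 y13 y20 y21 y22 y23 y30 y31 y32 y33 : F) :
    !![x00, x01, x02, x03; x10, x11, x12, x13; x20, x21, x22, x23; x30, x31, x32, x33] *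
    !![y00, y01, y02, y03; y10, y11, y12, y13; y20, y21, y22, y23; y30, y31, y32, y33] =
    !![x00 * y00 + x01 * y10 + x02 * y20 + x03 * y30, x00 * y01 + x01 * y11 + x02 * y21 + x03 * y31, x00 * y02 + x01 * y12 + x02 * y22 + x03 * y32, x00 * y03 + x01 * y13 + x02 * y23 + x03 * y33;
      x10 * y00 + x11 * y10 + x12 * y20 + x13 * y30, x10 * y01 + x11 * y11 + x12 * y21 + x13 * y31, x10 * y02 + x11 * y12 + x12 * y22 + x13 * y32, x10 * y03 + x11 * y13 + x12 * y23 + x13 * y33;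
      x20 * y00 + x21 * y10 + x22 * y20 + x23 * y30, x20 * y01 + x21 * y11 + x22 * y21 + x23 * y31, x20 * y02 + x21 * y12 + x22 * y22 + x23 * y32, x20 * y03 + x21 * y13 + x22 * y23 + x23 * y33;
      x30 * y00 + x31 * y10 + x32 * y20 + x33 * y30, x30 * y01 + x31 * y11 + x32 * y21 + x33 * y31, x30 * y02 + x31 * y12 + x32 * y22 + x33 * y32, x30 * y03 + x31 * y13 + x32 * y23 + x33 * y33] := by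
  ext i j
  fin_cases i <;> fin_cases j <;> simp [Matrix.mul_apply, Fin.sum_univ_four]

theorem hex {a1 b1 c1 d1 e1 f1 a2 b2 c2 d2 e2 f2 a3 b3 c3 d3 e3 f3 a4 b4 c4 d4 e4 f4 a5 b5 c5 d5 e5 f5 a6 b6 c6 d6 e6 f6 : F}
    (h00 : c3 + a1 * (f2 * c3 + e3) + b1 * (e2 * c3 + d2 * e3 + f3) + c1 * (c2 * c3 + b2 * e3 + a2 * f3 + 1) = c5)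
    (h01 : b3 + a1 * (f2 * b3 + d3) + b1 * (e2 * b3 + d2 * d3 + 1) + c1 * (c2 * b3 + b2 * d3 + a2) = c5 * a6 + b5)
    (h02 : a3 + a1 * (f2 * a3 + 1) + b1 * (e2 * a3 + d2) + c1 * (c2 * a3 + b2) = c5 * b6 + b5 * d6 + a5)
    (h03 : 1 + a1 * f2 + b1 * e2 + c1 * c2 = c5 * c6 + b5 * e6 + a5 * f6 + 1)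
    (h10 : f2 * c3 + e3 + d1 * (e2 * c3 + d2 * e3 + f3) + e1 * (c2 * c3 + b2 * e3 + a2 * f3 + 1) = f4 * c5 + e5)
    (h11 : f2 * b3 + d3 + d1 * (e2 * b3 + d2 * d3 + 1) + e1 * (c2 * b3 + b2 * d3 + a2) = (f4 * c5 + e5) * a6 + f4 * b5 + d5)
    (h12 : f2 * a3 + 1 + d1 * (e2 * a3 + d2) + e1 * (c2 * a3 + b2) = (f4 * c5 + e5) * b6 + (f4 * b5 + d5) * d6 + f4 * a5 + 1)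
    (h13 : f2 + d1 * e2 + e1 * c2 = (f4 * c5 + e5) * c6 + (f4 * b5 + d5) * e6 + (f4 * a5 + 1) * f6 + f4)
    (h20 : e2 * c3 + d2 * e3 + f3 + f1 * (c2 * c3 + b2 * e3 + a2 * f3 + 1) = e4 * c5 + d4 * e5 + f5)
    (h21 : e2 * b3 + d2 * d3 + 1 + f1 * (c2 * b3 + b2 * d3 + a2) = (e4 * c5 + d4 * e5 + f5) * a6 + e4 * b5 + d4 * d5 + 1)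
    (h22 : e2 * a3 + d2 + f1 * (c2 * a3 + b2) = (e4 * c5 + d4 * e5 + f5) * b6 + (e4 * b5 + d4 * d5 + 1) * d6 + e4 * a5 + d4)
    (h23 : e2 + f1 * c2 = (e4 * c5 + d4 * e5 + f5) * c6 + (e4 * b5 + d4 * d5 + 1) * e6 + (e4 * a5 + d4) * f6 + e4)
    (h30 : c2 * c3 + b2 * e3 + a2 * f3 + 1 = c4 * c5 + b4 * e5 + a4 * f5 + 1)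
    (h31 : c2 * b3 + b2 * d3 + a2 = (c4 * c5 + b4 * e5 + a4 * f5 + 1) * a6 + c4 * b5 + b4 * d5 + a4)
    (h32 : c2 * a3 + b2 = (c4 * c5 + b4 * e5 + a4 * f5 + 1) * b6 + (c4 * b5 + b4 * d5 + a4) * d6 + c4 * a5 + b4)
    (h33 : c2 = (c4 * c5 + b4 * e5 + a4 * f5 + 1) * c6 + (c4 * b5 + b4 * d5 + a4) * e6 + (c4 * a5 + b4) * f6 + c4)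
    : U a1 b1 c1 d1 e1 f1 * (Jm * U a2 b2 c2 d2 e2 f2 * Jm * U a3 b3 c3 d3 e3 f3 * Jm) = Jm * U a4 b4 c4 d4 e4 f4 * Jm * U a5 b5 c5 d5 e5 f5 * Jm * U a6 b6 c6 d6 e6 f6 := by
  simp only [U, Jm, mul4, mul_zero, zero_mul, mul_one, one_mul, add_zero, zero_add, ← add_assoc]
  ext i j
  fin_cases i <;> fin_cases j <;> assumption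

/-- first relation -/
def R3 (r s a A : F) : F := a^2*s^2*(1+r^2) + A*r^2*(1+s)*(1+r*s) + 1 + r^2*s + r^2*s^2
/-- second relation -/
def R5 (r s A : F) : F := A^2*r^2*(1+s^2) + A*(1+s)*(1+r*s)*(1+r^2*s) + r^2*s^3
/-- third relation -/
def Rb (r s a A b : F) : F := b^2 + a*A*b + A*(1+r*s) + A^2 + a^2 + (1+r^2*s)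

/-- a consequence -/
def R6 (r s a A : F) : F := r^4*s^2*A + r^3*s*A^2 + r^3*s^2*A + r^4*s*A + r^2*a^2*A + r^2*s*A^2 + r^3*A^2 +
  r^3*s*A + r^3*s^2 + r^2*A^2 + r^2*s^2 + a^2*A + r*s*A + r^2*s + r*A + A

variable [CharP F 2]

theorem r6 {r s a A : F} (hs : s ≠ 0) (h3 : R3 r s a A = 0) (h5 : R5 r s A = 0) : R6 r s a A = 0 := by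
  have : s ^ 2 * R6 r s a A = A * R3 r s a A + (1 + s + r * s) * R5 r s A := by
    simp only [R3, R5, R6]
    clear h3 h5 hs
    grind
  rw [h3, h5, mul_zero, mul_zero, add_zero] at this
  exact (mul_eq_zero.1 this).resolve_left (pow_ne_zero _ hs)

theorem e00 (r s a A b : F) : ((r^(2:ℕ)*s^(2:ℕ)*a^(2:ℕ)*A + r^(2:ℕ)*s*a^(2:ℕ)*A + s^(2:ℕ)*a^(2:ℕ)*A + s*a^(2:ℕ)*A + r*s + A + 1) + (s*a + a) * ((a) * (r^(2:ℕ)*s^(2:ℕ)*a^(2:ℕ)*A + r^(2:ℕ)*s*a^(2:ℕ)*A + s^(2:ℕ)*a^(2:ℕ)*A + s*a^(2:ℕ)*A + r*s + A + 1) + (r^(2:ℕ)*s*a*A + r^(2:ℕ)*a*A + s*a*A + b)) + (r^(3:ℕ)*s^(2:ℕ)*a + r^(2:ℕ)*s*a*A + r*s^(2:ℕ)*a +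 r^(2:ℕ)*s*b + r^(2:ℕ)*s*a + s*a*A + s*a + b) * ((a*A + b) * (r^(2:ℕ)*s^(2:ℕ)*a^(2:ℕ)*A + r^(2:ℕ)*s*a^(2:ℕ)*A + s^(2:ℕ)*a^(2:ℕ)*A + s*a^(2:ℕ)*A + r*s + A + 1) + (A) * (r^(2:ℕ)*s*a*A + r^(2:ℕ)*a*A + s*a*A + b) + (a)) + (r^(3:ℕ)*s^(3:ℕ)*a^(2:ℕ) + r^(4:ℕ)*s^(3:ℕ)*A + r^(3:ℕ)*s^(2:ℕ)*a^(2:ℕ) + r*s^(3:ℕ)*a^(2:ℕ) + r^(2:ℕ)*s*a^(2:ℕ)*A + r^(2:ℕ)*s^(2:ℕ)*a^(2:ℕ) + r^(3:ℕ)*s^(3:ℕ) + r^(4:ℕ)*s*A + r*s^(2:ℕ)*a^(2:ℕ) + r^(2:ℕ)*s*a*b + r^(2:ℕ)*s*a^(2:ℕ) + s*a^(2:ℕ)*A + s^(2:ℕ)*a^(2:ℕ) + r^(2:ℕ)*s^(2:ℕ) + s*a*b + s*a^(2:ℕ) + r^(2:ℕ)*A + r*s + A + 1) * ((r*s + A + 1) * (r^(2:ℕ)*s^(2:ℕ)*a^(2:ℕ)*A + r^(2:ℕ)*s*a^(2:ℕ)*A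 + s^(2:ℕ)*a^(2:ℕ)*A + s*a^(2:ℕ)*A + r*s + A + 1) + (b) * (r^(2:ℕ)*s*a*A + r^(2:ℕ)*a*A + s*a*A + b) + (a) * (a) + 1)) - ((r^(3:ℕ)*s^(3:ℕ)*a^(2:ℕ) + r^(4:ℕ)*s^(3:ℕ)*A + r^(3:ℕ)*s^(2:ℕ)*a^(2:ℕ) + r*s^(3:ℕ)*a^(2:ℕ) + r^(2:ℕ)*s^(2:ℕ)*a^(2:ℕ) + r^(3:ℕ)*s^(3:ℕ) + r^(4:ℕ)*s*A + r*s^(2:ℕ)*a^(2:ℕ) + r^(2:ℕ)*s*a*b + r^(2:ℕ)*s*a^(2:ℕ) + s^(2:ℕ)*a^(2:ℕ) + r^(2:ℕ)*s^(2:ℕ) + s*a*b + s*a^(2:ℕ) + r^(2:ℕ)*A + r*s + A + 1)) =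
    (r^(4:ℕ)*s^(3:ℕ)*a^(2:ℕ)*A + r^(2:ℕ)*s^(3:ℕ)*a^(2:ℕ)*A + r^(3:ℕ)*s^(3:ℕ)*a^(2:ℕ) + r^(4:ℕ)*s*a^(2:ℕ)*A + r^(4:ℕ)*s^(3:ℕ)*A + r^(3:ℕ)*s^(2:ℕ)*a^(2:ℕ) + r*s^(3:ℕ)*a^(2:ℕ) + r^(2:ℕ)*s^(2:ℕ)*a^(2:ℕ) + r^(3:ℕ)*s^(3:ℕ) + r^(4:ℕ)*s*A + r*s^(2:ℕ)*a^(2:ℕ) + r^(2:ℕ)*s*a*b + r^(2:ℕ)*s*a^(2:ℕ) + r^(3:ℕ)*s^(2:ℕ) + s*a^(2:ℕ)*A + s^(2:ℕ)*a^(2:ℕ) + r^(2:ℕ)*s^(2:ℕ) + s*a*b + s*a^(2:ℕ) + r^(2:ℕ)*A + r^(2:ℕ)*s + A) * Rb r s a A b + (r^(4:ℕ)*s^(4:ℕ)*a^(2:ℕ)*A + r^(3:ℕ)*s^(3:ℕ)*a^(2:ℕ)*A^(2:ℕ) + r^(2:ℕ)*s^(4:ℕ)*a^(2:ℕ)*A + r^(4:ℕ)*s^(2:ℕ)*a^(2:ℕ)*A + r*s^(3:ℕ)*a^(2:ℕ)*A^(2:ℕ) + r^(2:ℕ)*s^(2:ℕ)*a^(2:ℕ)*A^(2:ℕ)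 + r^(3:ℕ)*s*a^(2:ℕ)*A^(2:ℕ) + r^(3:ℕ)*s^(2:ℕ)*a*A*b + s^(2:ℕ)*a^(2:ℕ)*A^(2:ℕ) + r*s*a^(2:ℕ)*A^(2:ℕ) + r*s^(2:ℕ)*a*A*b + r^(2:ℕ)*a^(2:ℕ)*A^(2:ℕ) + r^(2:ℕ)*s*a*A*b + r^(2:ℕ)*s*a^(2:ℕ)*A + r^(3:ℕ)*a*A*b + r^(3:ℕ)*s*A^(2:ℕ) + r^(3:ℕ)*s^(3:ℕ) + s^(2:ℕ)*a^(2:ℕ)*A + r^(2:ℕ)*A^(3:ℕ) + r^(2:ℕ)*a^(2:ℕ)*A + r^(2:ℕ)*s^(2:ℕ)*A + r^(3:ℕ)*A^(2:ℕ) + r^(3:ℕ)*s*A + a^(2:ℕ)*A^(2:ℕ) + s*a*A*b + s*a^(2:ℕ)*A + r*a*A*b + r^(2:ℕ)*s^(2:ℕ) + r^(3:ℕ)*A + a^(2:ℕ)*A + r*A^(2:ℕ) + r^(2:ℕ)*s + r*A + A) * R3 r s a A +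
    (r^(3:ℕ)*A^(2:ℕ) + r^(3:ℕ)*a*b + r^(2:ℕ)*a*b + r*a*b + r^(2:ℕ)*A + r^(3:ℕ) + a*b + A + r) * R5 r s A + (r^(2:ℕ)*s*a*b + r^(2:ℕ)*s*a^(2:ℕ) + r^(2:ℕ)*A^(2:ℕ) + r^(2:ℕ)*s*A + s*a*b + s*a^(2:ℕ) + r*s*A + r^(2:ℕ)*A + s*A + r*s + A) * R6 r s a A := by
  simp only [Rb, R3, R5, R6]
  grind

theorem e01 (r s a A b : F) : ((r^(2:ℕ)*s*a*A + r^(2:ℕ)*a*A + s*a*A + a*A + b) + (s*a + a) * ((a) * (r^(2:ℕ)*s*a*A + r^(2:ℕ)*a*A + s*a*A + a*A + b) + (A)) + (r^(3:ℕ)*s^(2:ℕ)*a + r^(2:ℕ)*s*a*A + r*s^(2:ℕ)*a + r^(2:ℕ)*s*b + r^(2:ℕ)*s*a + s*a*A + s*a + b) * ((a*A + b) * (r^(2:ℕ)*s*a*A + r^(2:ℕ)*a*A + s*a*A + a*A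 + b) + (A) * (A) + 1) + (r^(3:ℕ)*s^(3:ℕ)*a^(2:ℕ) + r^(4:ℕ)*s^(3:ℕ)*A + r^(3:ℕ)*s^(2:ℕ)*a^(2:ℕ) + r*s^(3:ℕ)*a^(2:ℕ) + r^(2:ℕ)*s*a^(2:ℕ)*A + r^(2:ℕ)*s^(2:ℕ)*a^(2:ℕ) + r^(3:ℕ)*s^(3:ℕ) + r^(4:ℕ)*s*A + r*s^(2:ℕ)*a^(2:ℕ) + r^(2:ℕ)*s*a*b + r^(2:ℕ)*s*a^(2:ℕ) + s*a^(2:ℕ)*A + s^(2:ℕ)*a^(2:ℕ) + r^(2:ℕ)*s^(2:ℕ) + s*a*b + s*a^(2:ℕ) + r^(2:ℕ)*A + r*s + A + 1) * ((r*s + A + 1) * (r^(2:ℕ)*s*a*A + r^(2:ℕ)*a*A + s*a*A + a*A + b) + (b) * (A) + (a))) - ((r^(3:ℕ)*s^(3:ℕ)*a^(2:ℕ) + r^(4:ℕ)*s^(3:ℕ)*A + r^(3:ℕ)*s^(2:ℕ)*a^(2:ℕ) + r*s^(3:ℕ)*a^(2:ℕ) + r^(2:ℕ)*s^(2:ℕ)*a^(2:ℕ) + r^(3:ℕ)*s^(3:ℕ) + r^(4:ℕ)*s*A + r*s^(2:ℕ)*a^(2:ℕ)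 + r^(2:ℕ)*s*a*b + r^(2:ℕ)*s*a^(2:ℕ) + s^(2:ℕ)*a^(2:ℕ) + r^(2:ℕ)*s^(2:ℕ) + s*a*b + s*a^(2:ℕ) + r^(2:ℕ)*A + r*s + A + 1) * (a) + (r^(3:ℕ)*s^(2:ℕ)*a + r*s^(2:ℕ)*a + r^(2:ℕ)*s*b + r^(2:ℕ)*s*a + s*a*A + a*A + s*a + b)) =
    (r^(4:ℕ)*s^(2:ℕ)*a*A + r^(4:ℕ)*s*a*A + r^(2:ℕ)*s^(2:ℕ)*a*A + r^(2:ℕ)*s*a*A + r^(2:ℕ)*a*A + r^(2:ℕ)*s*b + a*A + b) * Rb r s a A b + (r^(4:ℕ)*s^(3:ℕ)*a*A + r^(3:ℕ)*s^(2:ℕ)*a*A^(2:ℕ) + r^(2:ℕ)*s^(3:ℕ)*a*A + r^(4:ℕ)*s*a*A + r*s^(2:ℕ)*a*A^(2:ℕ) + r^(2:ℕ)*s*a*A^(2:ℕ) + r^(3:ℕ)*a*A^(2:ℕ) + r^(2:ℕ)*s^(2:ℕ)*b + s*a*A^(2:ℕ) + r*a*A^(2:ℕ) + r^(2:ℕ)*a*A + r^(2:ℕ)*s*b + s*a*A + a*A + b)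 * R3 r s a A +
    (r^(3:ℕ)*a*A + r^(2:ℕ)*a*A + r*a*A + a*A) * R5 r s A + (r^(2:ℕ)*s*a*A + s*a*A) * R6 r s a A := by
  simp only [Rb, R3, R5, R6]
  grind

theorem e02 (r s a A b : F) : ((a) + (s*a + a) * ((a) * (a) + 1) + (r^(3:ℕ)*s^(2:ℕ)*a + r^(2:ℕ)*s*a*A + r*s^(2:ℕ)*a + r^(2:ℕ)*s*b + r^(2:ℕ)*s*a + s*a*A + s*a + b) * ((a*A + b) * (a) + (A)) + (r^(3:ℕ)*s^(3:ℕ)*a^(2:ℕ) + r^(4:ℕ)*s^(3:ℕ)*A + r^(3:ℕ)*s^(2:ℕ)*a^(2:ℕ) + r*s^(3:ℕ)*a^(2:ℕ) + r^(2:ℕ)*s*a^(2:ℕ)*A + r^(2:ℕ)*s^(2:ℕ)*a^(2:ℕ) + r^(3:ℕ)*s^(3:ℕ) + r^(4:ℕ)*s*A + r*s^(2:ℕ)*a^(2:ℕ) + r^(2:ℕ)*s*a*b + r^(2:ℕ)*s*a^(2:ℕ) + s*a^(2:ℕ)*A + s^(2:ℕ)*a^(2:ℕ)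 + r^(2:ℕ)*s^(2:ℕ) + s*a*b + s*a^(2:ℕ) + r^(2:ℕ)*A + r*s + A + 1) * ((r*s + A + 1) * (a) + (b))) - ((r^(3:ℕ)*s^(3:ℕ)*a^(2:ℕ) + r^(4:ℕ)*s^(3:ℕ)*A + r^(3:ℕ)*s^(2:ℕ)*a^(2:ℕ) + r*s^(3:ℕ)*a^(2:ℕ) + r^(2:ℕ)*s^(2:ℕ)*a^(2:ℕ) + r^(3:ℕ)*s^(3:ℕ) + r^(4:ℕ)*s*A + r*s^(2:ℕ)*a^(2:ℕ) + r^(2:ℕ)*s*a*b + r^(2:ℕ)*s*a^(2:ℕ) + s^(2:ℕ)*a^(2:ℕ) + r^(2:ℕ)*s^(2:ℕ) + s*a*b + s*a^(2:ℕ) + r^(2:ℕ)*A + r*s + A + 1) * (a*A + b) + (r^(3:ℕ)*s^(2:ℕ)*a + r*s^(2:ℕ)*a + r^(2:ℕ)*s*b + r^(2:ℕ)*s*a + s*a*A + a*A + s*a + b) * (A) + (s*a + a)) =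
    (r^(2:ℕ)*s*a + a) * Rb r s a A b + (r^(2:ℕ)*s^(2:ℕ)*a + r^(2:ℕ)*s*a + a) * R3 r s a A +
    (0) * R5 r s A + (0) * R6 r s a A := by
  simp only [Rb, R3, R5, R6]
  grind

theorem e03 (r s a A b : F) : (1 + (s*a + a) * (a) + (r^(3:ℕ)*s^(2:ℕ)*a + r^(2:ℕ)*s*a*A + r*s^(2:ℕ)*a + r^(2:ℕ)*s*b + r^(2:ℕ)*s*a + s*a*A + s*a + b) * (a*A + b) + (r^(3:ℕ)*s^(3:ℕ)*a^(2:ℕ) + r^(4:ℕ)*s^(3:ℕ)*A + r^(3:ℕ)*s^(2:ℕ)*a^(2:ℕ) + r*s^(3:ℕ)*a^(2:ℕ) + r^(2:ℕ)*s*a^(2:ℕ)*A + r^(2:ℕ)*s^(2:ℕ)*a^(2:ℕ) + r^(3:ℕ)*s^(3:ℕ) + r^(4:ℕ)*s*A + r*s^(2:ℕ)*a^(2:ℕ) + r^(2:ℕ)*s*a*b + r^(2:ℕ)*s*a^(2:ℕ) + s*a^(2:ℕ)*A + s^(2:ℕ)*a^(2:ℕ)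 + r^(2:ℕ)*s^(2:ℕ) + s*a*b + s*a^(2:ℕ) + r^(2:ℕ)*A + r*s + A + 1) * (r*s + A + 1)) - ((r^(3:ℕ)*s^(3:ℕ)*a^(2:ℕ) + r^(4:ℕ)*s^(3:ℕ)*A + r^(3:ℕ)*s^(2:ℕ)*a^(2:ℕ) + r*s^(3:ℕ)*a^(2:ℕ) + r^(2:ℕ)*s^(2:ℕ)*a^(2:ℕ) + r^(3:ℕ)*s^(3:ℕ) + r^(4:ℕ)*s*A + r*s^(2:ℕ)*a^(2:ℕ) + r^(2:ℕ)*s*a*b + r^(2:ℕ)*s*a^(2:ℕ) + s^(2:ℕ)*a^(2:ℕ) + r^(2:ℕ)*s^(2:ℕ) + s*a*b + s*a^(2:ℕ) + r^(2:ℕ)*A + r*s + A + 1) * (r*s + A + 1) + (r^(3:ℕ)*s^(2:ℕ)*a + r*s^(2:ℕ)*a + r^(2:ℕ)*s*b + r^(2:ℕ)*s*a + s*a*A + a*A + s*a + b) * (b) + (s*a + a) * (a) + 1) =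
    (0) * Rb r s a A b + (0) * R3 r s a A +
    (0) * R5 r s A + (0) * R6 r s a A := by
  simp only [Rb, R3, R5, R6]
  grind

theorem e10 (r s a A b : F) : ((a) * (r^(2:ℕ)*s^(2:ℕ)*a^(2:ℕ)*A + r^(2:ℕ)*s*a^(2:ℕ)*A + s^(2:ℕ)*a^(2:ℕ)*A + s*a^(2:ℕ)*A + r*s + A + 1) + (r^(2:ℕ)*s*a*A + r^(2:ℕ)*a*A + s*a*A + b) + (r^(2:ℕ)*A + A) * ((a*A + b) * (r^(2:ℕ)*s^(2:ℕ)*a^(2:ℕ)*A + r^(2:ℕ)*s*a^(2:ℕ)*A + s^(2:ℕ)*a^(2:ℕ)*A + s*a^(2:ℕ)*A + r*s + A + 1) + (A) * (r^(2:ℕ)*s*a*A + r^(2:ℕ)*a*A + s*a*A + b) + (a)) + (r^(3:ℕ)*s^(2:ℕ)*a + r*s^(2:ℕ)*a + r^(2:ℕ)*a*A + r^(2:ℕ)*s*b + r^(2:ℕ)*s*a + a*A + s*a + b) * ((r*s +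 A + 1) * (r^(2:ℕ)*s^(2:ℕ)*a^(2:ℕ)*A + r^(2:ℕ)*s*a^(2:ℕ)*A + s^(2:ℕ)*a^(2:ℕ)*A + s*a^(2:ℕ)*A + r*s + A + 1) + (b) * (r^(2:ℕ)*s*a*A + r^(2:ℕ)*a*A + s*a*A + b) + (a) * (a) + 1)) - ((s*a) * (r^(3:ℕ)*s^(3:ℕ)*a^(2:ℕ) + r^(4:ℕ)*s^(3:ℕ)*A + r^(3:ℕ)*s^(2:ℕ)*a^(2:ℕ) + r*s^(3:ℕ)*a^(2:ℕ) + r^(2:ℕ)*s^(2:ℕ)*a^(2:ℕ) + r^(3:ℕ)*s^(3:ℕ) + r^(4:ℕ)*s*A + r*s^(2:ℕ)*a^(2:ℕ) + r^(2:ℕ)*s*a*b + r^(2:ℕ)*s*a^(2:ℕ) + s^(2:ℕ)*a^(2:ℕ) + r^(2:ℕ)*s^(2:ℕ) + s*a*b + s*a^(2:ℕ) + r^(2:ℕ)*A + r*s + A + 1) + (r^(3:ℕ)*s^(2:ℕ)*a + r^(2:ℕ)*s*a*A + r*s^(2:ℕ)*a + r^(2:ℕ)*a*A + r^(2:ℕ)*s*b + r^(2:ℕ)*s*a + s*a + b)) =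
    (r^(4:ℕ)*s^(2:ℕ)*a*A + r^(4:ℕ)*s*a*A + r^(2:ℕ)*s^(2:ℕ)*a*A + r^(3:ℕ)*s^(2:ℕ)*a + r*s^(2:ℕ)*a + r^(2:ℕ)*s*b + r^(2:ℕ)*s*a + s*a*A + s*a + b) * Rb r s a A b + (r^(4:ℕ)*s^(3:ℕ)*a*A + r^(3:ℕ)*s^(2:ℕ)*a*A^(2:ℕ) + r^(4:ℕ)*s^(2:ℕ)*a*A + r^(2:ℕ)*s^(3:ℕ)*a*A + r^(3:ℕ)*s^(2:ℕ)*A*b + r*s^(2:ℕ)*a*A^(2:ℕ) + r^(2:ℕ)*s*A^(2:ℕ)*b + r^(2:ℕ)*s*a*A^(2:ℕ) + r^(2:ℕ)*s^(2:ℕ)*a*A + r^(3:ℕ)*a*A^(2:ℕ) + r^(2:ℕ)*A^(2:ℕ)*b + r^(2:ℕ)*s*A*b + r^(2:ℕ)*s*a*A + r^(3:ℕ)*A*b + s*a*A^(2:ℕ) + r*a*A^(2:ℕ) + r*s^(2:ℕ)*a + s*a*A + r*s*a + s*a + b + a) * R3 r s a A +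
    (r^(4:ℕ)*s^(2:ℕ)*a*A + r^(4:ℕ)*s*a*A + r^(2:ℕ)*s^(2:ℕ)*a*A + r^(3:ℕ)*s*A*b + r^(2:ℕ)*s*a*A + r^(3:ℕ)*A*b + r^(3:ℕ)*a*A + r^(3:ℕ)*s*a + r^(2:ℕ)*a*A + r^(3:ℕ)*b + r*a*A + r*s*a + a*A + r*a + a) * R5 r s A + (r^(2:ℕ)*s*A*b + r^(2:ℕ)*s*a*A + r^(2:ℕ)*A*b + r^(2:ℕ)*s*b + r^(2:ℕ)*s*a + s*a*A + a) * R6 r s a A := by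
  simp only [Rb, R3, R5, R6]
  grind

theorem e11 (r s a A b : F) : ((a) * (r^(2:ℕ)*s*a*A + r^(2:ℕ)*a*A + s*a*A + a*A + b) + (A) + (r^(2:ℕ)*A + A) * ((a*A + b) * (r^(2:ℕ)*s*a*A + r^(2:ℕ)*a*A + s*a*A + a*A + b) + (A) * (A) + 1) + (r^(3:ℕ)*s^(2:ℕ)*a + r*s^(2:ℕ)*a + r^(2:ℕ)*a*A + r^(2:ℕ)*s*b + r^(2:ℕ)*s*a + a*A + s*a + b) * ((r*s + A + 1) * (r^(2:ℕ)*s*a*A + r^(2:ℕ)*a*A + s*a*A + a*A + b) + (b) * (A) + (a))) - (((s*a) * (r^(3:ℕ)*s^(3:ℕ)*a^(2:ℕ) + r^(4:ℕ)*s^(3:ℕ)*A + r^(3:ℕ)*s^(2:ℕ)*a^(2:ℕ) + r*s^(3:ℕ)*a^(2:ℕ) + r^(2:ℕ)*s^(2:ℕ)*a^(2:ℕ) + r^(3:ℕ)*s^(3:ℕ) + r^(4:ℕ)*s*A + r*s^(2:ℕ)*a^(2:ℕ) + r^(2:ℕ)*s*a*b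 + r^(2:ℕ)*s*a^(2:ℕ) + s^(2:ℕ)*a^(2:ℕ) + r^(2:ℕ)*s^(2:ℕ) + s*a*b + s*a^(2:ℕ) + r^(2:ℕ)*A + r*s + A + 1) + (r^(3:ℕ)*s^(2:ℕ)*a + r^(2:ℕ)*s*a*A + r*s^(2:ℕ)*a + r^(2:ℕ)*a*A + r^(2:ℕ)*s*b + r^(2:ℕ)*s*a + s*a + b)) * (a) + (s*a) * (r^(3:ℕ)*s^(2:ℕ)*a + r*s^(2:ℕ)*a + r^(2:ℕ)*s*b + r^(2:ℕ)*s*a + s*a*A + a*A + s*a + b) + (r^(2:ℕ)*A + A)) =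
    (r^(3:ℕ)*s^(2:ℕ) + r^(2:ℕ)*A + r^(2:ℕ)*s + r*s + A + 1) * Rb r s a A b + (r^(4:ℕ)*s^(2:ℕ)*A + r^(3:ℕ)*s*A^(2:ℕ) + r^(4:ℕ)*s*A + r*s^(2:ℕ)*a^(2:ℕ) + r^(2:ℕ)*s^(2:ℕ)*A + r*s*A^(2:ℕ) + r*s*a^(2:ℕ) + r^(2:ℕ)*A^(2:ℕ) + r^(2:ℕ)*s*A + s*a^(2:ℕ) + r^(2:ℕ)*A + A^(2:ℕ) + a*b + a^(2:ℕ) + r*s + 1) * R3 r s a A +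
    (r^(4:ℕ)*s*A + r^(2:ℕ)*a*b + r^(2:ℕ)*s*A + r^(3:ℕ)*A + a*b + r*A + r^(2:ℕ) + r) * R5 r s A + (r^(3:ℕ)*s*A + r*s*A + r^(2:ℕ)*A + r^(2:ℕ)*s + A + 1) * R6 r s a A := by
  simp only [Rb, R3, R5, R6]
  grind

theorem e12 (r s a A b : F) : ((a) * (a) + 1 + (r^(2:ℕ)*A + A) * ((a*A + b) * (a) + (A)) + (r^(3:ℕ)*s^(2:ℕ)*a + r*s^(2:ℕ)*a + r^(2:ℕ)*a*A + r^(2:ℕ)*s*b + r^(2:ℕ)*s*a + a*A + s*a + b) * ((r*s + A + 1) * (a) + (b))) - (((s*a) * (r^(3:ℕ)*s^(3:ℕ)*a^(2:ℕ) + r^(4:ℕ)*s^(3:ℕ)*A + r^(3:ℕ)*s^(2:ℕ)*a^(2:ℕ) + r*s^(3:ℕ)*a^(2:ℕ) + r^(2:ℕ)*s^(2:ℕ)*a^(2:ℕ) + r^(3:ℕ)*s^(3:ℕ) + r^(4:ℕ)*s*A + r*s^(2:ℕ)*a^(2:ℕ)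 + r^(2:ℕ)*s*a*b + r^(2:ℕ)*s*a^(2:ℕ) + s^(2:ℕ)*a^(2:ℕ) + r^(2:ℕ)*s^(2:ℕ) + s*a*b + s*a^(2:ℕ) + r^(2:ℕ)*A + r*s + A + 1) + (r^(3:ℕ)*s^(2:ℕ)*a + r^(2:ℕ)*s*a*A + r*s^(2:ℕ)*a + r^(2:ℕ)*a*A + r^(2:ℕ)*s*b + r^(2:ℕ)*s*a + s*a + b)) * (a*A + b) + ((s*a) * (r^(3:ℕ)*s^(2:ℕ)*a + r*s^(2:ℕ)*a + r^(2:ℕ)*s*b + r^(2:ℕ)*s*a + s*a*A + a*A + s*a + b) + (r^(2:ℕ)*A + A)) * (A) + (s*a) * (s*a + a) + 1) =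
    (r^(2:ℕ)*s^(2:ℕ)*a^(2:ℕ) + s^(2:ℕ)*a^(2:ℕ)) * Rb r s a A b + (r*s^(2:ℕ)*a^(2:ℕ)*A + r*s*a^(2:ℕ)*A + r*s^(2:ℕ)*a*b + s*a^(2:ℕ)*A + r*s*a*b + a^(2:ℕ)*A + s*a*b + a*b + a^(2:ℕ)) * R3 r s a A +
    (0) * R5 r s A + (0) * R6 r s a A := by
  simp only [Rb, R3, R5, R6]
  grind

theorem e13 (r s a A b : F) : ((a) + (r^(2:ℕ)*A + A) * (a*A + b) + (r^(3:ℕ)*s^(2:ℕ)*a + r*s^(2:ℕ)*a + r^(2:ℕ)*a*A + r^(2:ℕ)*s*b + r^(2:ℕ)*s*a + a*A + s*a + b) * (r*s + A + 1)) - (((s*a) * (r^(3:ℕ)*s^(3:ℕ)*a^(2:ℕ) + r^(4:ℕ)*s^(3:ℕ)*A + r^(3:ℕ)*s^(2:ℕ)*a^(2:ℕ) + r*s^(3:ℕ)*a^(2:ℕ) + r^(2:ℕ)*s^(2:ℕ)*a^(2:ℕ) + r^(3:ℕ)*s^(3:ℕ)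 + r^(4:ℕ)*s*A + r*s^(2:ℕ)*a^(2:ℕ) + r^(2:ℕ)*s*a*b + r^(2:ℕ)*s*a^(2:ℕ) + s^(2:ℕ)*a^(2:ℕ) + r^(2:ℕ)*s^(2:ℕ) + s*a*b + s*a^(2:ℕ) + r^(2:ℕ)*A + r*s + A + 1) + (r^(3:ℕ)*s^(2:ℕ)*a + r^(2:ℕ)*s*a*A + r*s^(2:ℕ)*a + r^(2:ℕ)*a*A + r^(2:ℕ)*s*b + r^(2:ℕ)*s*a + s*a + b)) * (r*s + A + 1) + ((s*a) * (r^(3:ℕ)*s^(2:ℕ)*a + r*s^(2:ℕ)*a + r^(2:ℕ)*s*b + r^(2:ℕ)*s*a + s*a*A + a*A + s*a + b) + (r^(2:ℕ)*A + A)) * (b) + ((s*a) * (s*a + a) + 1) * (a) + (s*a)) =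
    (r^(2:ℕ)*s^(2:ℕ)*a + s*a) * Rb r s a A b + (r^(2:ℕ)*s^(3:ℕ)*a + r*s^(2:ℕ)*a*A + r^(2:ℕ)*s^(2:ℕ)*a + r*s*a*A + s*a*A + a*A + s*a) * R3 r s a A +
    (0) * R5 r s A + (0) * R6 r s a A := by
  simp only [Rb, R3, R5, R6]
  grind

theorem e20 (r s a A b : F) : ((a*A + b) * (r^(2:ℕ)*s^(2:ℕ)*a^(2:ℕ)*A + r^(2:ℕ)*s*a^(2:ℕ)*A + s^(2:ℕ)*a^(2:ℕ)*A + s*a^(2:ℕ)*A + r*s + A + 1) + (A) * (r^(2:ℕ)*s*a*A + r^(2:ℕ)*a*A + s*a*A + b) + (a) + (s*a + a) * ((r*s + A + 1) * (r^(2:ℕ)*s^(2:ℕ)*a^(2:ℕ)*A + r^(2:ℕ)*s*a^(2:ℕ)*A + s^(2:ℕ)*a^(2:ℕ)*A + s*a^(2:ℕ)*A + r*s + A + 1) + (b) * (r^(2:ℕ)*s*a*A + r^(2:ℕ)*a*A + s*a*A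 + b) + (a) * (a) + 1)) - ((r^(3:ℕ)*s^(2:ℕ)*a + r*s^(2:ℕ)*a + r^(2:ℕ)*a*A + r^(2:ℕ)*s*b + r^(2:ℕ)*s*a + s*a*A + a*A + s*a) * (r^(3:ℕ)*s^(3:ℕ)*a^(2:ℕ) + r^(4:ℕ)*s^(3:ℕ)*A + r^(3:ℕ)*s^(2:ℕ)*a^(2:ℕ) + r*s^(3:ℕ)*a^(2:ℕ) + r^(2:ℕ)*s^(2:ℕ)*a^(2:ℕ) + r^(3:ℕ)*s^(3:ℕ) + r^(4:ℕ)*s*A + r*s^(2:ℕ)*a^(2:ℕ) + r^(2:ℕ)*s*a*b + r^(2:ℕ)*s*a^(2:ℕ) + s^(2:ℕ)*a^(2:ℕ) + r^(2:ℕ)*s^(2:ℕ) + s*a*b + s*a^(2:ℕ) + r^(2:ℕ)*A + r*s + A + 1) + (r^(2:ℕ)*A) * (r^(3:ℕ)*s^(2:ℕ)*a + r^(2:ℕ)*s*a*A + r*s^(2:ℕ)*a + r^(2:ℕ)*a*A + r^(2:ℕ)*s*b + r^(2:ℕ)*s*a + s*a + b) + (s*a + a)) =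
    (r^(4:ℕ)*s^(2:ℕ)*a + r^(2:ℕ)*s^(2:ℕ)*a + s*a + a) * Rb r s a A b + (r^(4:ℕ)*s^(3:ℕ)*a + r^(4:ℕ)*s^(2:ℕ)*a + r^(2:ℕ)*s^(3:ℕ)*a + r^(3:ℕ)*s*a*A + r^(3:ℕ)*s^(2:ℕ)*b + r^(2:ℕ)*s^(2:ℕ)*a + r^(3:ℕ)*a*A + s*a*A^(2:ℕ) + r^(2:ℕ)*A*b + r^(2:ℕ)*a*A + r^(2:ℕ)*s*b + r^(2:ℕ)*s*a + a*A^(2:ℕ) + r*s*b + A*b + s*a + b + a) * R3 r s a A +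
    (r*s*a*A + r^(3:ℕ)*a + r^(2:ℕ)*b + r^(2:ℕ)*a + a*A + r*b + a) * R5 r s A + (r^(2:ℕ)*s*b + r^(2:ℕ)*s*a + b) * R6 r s a A := by
  simp only [Rb, R3, R5, R6]
  grind

theorem e21 (r s a A b : F) : ((a*A + b) * (r^(2:ℕ)*s*a*A + r^(2:ℕ)*a*A + s*a*A + a*A + b) + (A) * (A) + 1 + (s*a + a) * ((r*s + A + 1) * (r^(2:ℕ)*s*a*A + r^(2:ℕ)*a*A + s*a*A + a*A + b) + (b) * (A) + (a))) - (((r^(3:ℕ)*s^(2:ℕ)*a + r*s^(2:ℕ)*a + r^(2:ℕ)*a*A + r^(2:ℕ)*s*b + r^(2:ℕ)*s*a + s*a*A + a*A + s*a) * (r^(3:ℕ)*s^(3:ℕ)*a^(2:ℕ) + r^(4:ℕ)*s^(3:ℕ)*A + r^(3:ℕ)*s^(2:ℕ)*a^(2:ℕ) + r*s^(3:ℕ)*a^(2:ℕ) + r^(2:ℕ)*s^(2:ℕ)*a^(2:ℕ) + r^(3:ℕ)*s^(3:ℕ)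 + r^(4:ℕ)*s*A + r*s^(2:ℕ)*a^(2:ℕ) + r^(2:ℕ)*s*a*b + r^(2:ℕ)*s*a^(2:ℕ) + s^(2:ℕ)*a^(2:ℕ) + r^(2:ℕ)*s^(2:ℕ) + s*a*b + s*a^(2:ℕ) + r^(2:ℕ)*A + r*s + A + 1) + (r^(2:ℕ)*A) * (r^(3:ℕ)*s^(2:ℕ)*a + r^(2:ℕ)*s*a*A + r*s^(2:ℕ)*a + r^(2:ℕ)*a*A + r^(2:ℕ)*s*b + r^(2:ℕ)*s*a + s*a + b) + (s*a + a)) * (a) + (r^(3:ℕ)*s^(2:ℕ)*a + r*s^(2:ℕ)*a + r^(2:ℕ)*a*A + r^(2:ℕ)*s*b + r^(2:ℕ)*s*a + s*a*A + a*A + s*a) * (r^(3:ℕ)*s^(2:ℕ)*a + r*s^(2:ℕ)*a + r^(2:ℕ)*s*b + r^(2:ℕ)*s*a + s*a*A + a*A + s*a + b) + (r^(2:ℕ)*A) * (r^(2:ℕ)*A + A) + 1) =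
    (r^(4:ℕ)*s^(2:ℕ)*a^(2:ℕ) + r^(2:ℕ)*s^(2:ℕ)*a^(2:ℕ) + r^(4:ℕ)*s^(2:ℕ) + r^(2:ℕ)*s + 1) * Rb r s a A b + (r^(4:ℕ)*s^(3:ℕ)*a^(2:ℕ) + r^(4:ℕ)*s^(2:ℕ)*a^(2:ℕ) + r^(2:ℕ)*s^(3:ℕ)*a^(2:ℕ) + r^(3:ℕ)*s*a^(2:ℕ)*A + r^(3:ℕ)*s^(2:ℕ)*a*b + r*s^(2:ℕ)*a^(2:ℕ)*A + r^(2:ℕ)*s^(2:ℕ)*a^(2:ℕ) + r^(3:ℕ)*a^(2:ℕ)*A + r^(4:ℕ)*s*A + r^(4:ℕ)*s^(2:ℕ) + r^(2:ℕ)*a*A*b + r^(2:ℕ)*a^(2:ℕ)*A + r^(2:ℕ)*s*a*b + r^(2:ℕ)*s*a^(2:ℕ) + r^(3:ℕ)*A^(2:ℕ) + r^(3:ℕ)*s*A + r^(4:ℕ)*A + s*a^(2:ℕ)*A + r*a^(2:ℕ)*A + r*s*a*b + r^(2:ℕ)*s^(2:ℕ) + r^(3:ℕ)*A + r^(3:ℕ)*s + a*A*b + s*a^(2:ℕ) + r*s*A + r^(2:ℕ)*s + a*b + a^(2:ℕ) + A + 1) * R3 r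 s a A +
    (r^(4:ℕ)*A + r^(4:ℕ)*s + r^(2:ℕ)*a*b + r^(3:ℕ)*A + r^(4:ℕ) + r^(2:ℕ)*A + r^(2:ℕ)*s + r^(3:ℕ) + a*b + r) * R5 r s A + (r^(2:ℕ)*s*a*b + r^(2:ℕ)*s*a^(2:ℕ) + r^(2:ℕ)*s*A + r^(3:ℕ)*A + r^(3:ℕ)*s + s*a*b + s*a^(2:ℕ) + r^(2:ℕ)*A + r^(2:ℕ)*s + r*s + r) * R6 r s a A := by
  simp only [Rb, R3, R5, R6]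
  grind

theorem e22 (r s a A b : F) : ((a*A + b) * (a) + (A) + (s*a + a) * ((r*s + A + 1) * (a) + (b))) - (((r^(3:ℕ)*s^(2:ℕ)*a + r*s^(2:ℕ)*a + r^(2:ℕ)*a*A + r^(2:ℕ)*s*b + r^(2:ℕ)*s*a + s*a*A + a*A + s*a) * (r^(3:ℕ)*s^(3:ℕ)*a^(2:ℕ) + r^(4:ℕ)*s^(3:ℕ)*A + r^(3:ℕ)*s^(2:ℕ)*a^(2:ℕ) + r*s^(3:ℕ)*a^(2:ℕ) + r^(2:ℕ)*s^(2:ℕ)*a^(2:ℕ) + r^(3:ℕ)*s^(3:ℕ) + r^(4:ℕ)*s*A + r*s^(2:ℕ)*a^(2:ℕ) + r^(2:ℕ)*s*a*b + r^(2:ℕ)*s*a^(2:ℕ) + s^(2:ℕ)*a^(2:ℕ) + r^(2:ℕ)*s^(2:ℕ) + s*a*b + s*a^(2:ℕ) + r^(2:ℕ)*A + r*s + A + 1) + (r^(2:ℕ)*A) * (r^(3:ℕ)*s^(2:ℕ)*a + r^(2:ℕ)*s*a*A + r*s^(2:ℕ)*a + r^(2:ℕ)*a*A + r^(2:ℕ)*s*b + r^(2:ℕ)*s*a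 + s*a + b) + (s*a + a)) * (a*A + b) + ((r^(3:ℕ)*s^(2:ℕ)*a + r*s^(2:ℕ)*a + r^(2:ℕ)*a*A + r^(2:ℕ)*s*b + r^(2:ℕ)*s*a + s*a*A + a*A + s*a) * (r^(3:ℕ)*s^(2:ℕ)*a + r*s^(2:ℕ)*a + r^(2:ℕ)*s*b + r^(2:ℕ)*s*a + s*a*A + a*A + s*a + b) + (r^(2:ℕ)*A) * (r^(2:ℕ)*A + A) + 1) * (A) + (r^(3:ℕ)*s^(2:ℕ)*a + r*s^(2:ℕ)*a + r^(2:ℕ)*a*A + r^(2:ℕ)*s*b + r^(2:ℕ)*s*a + s*a*A + a*A + s*a) * (s*a + a) + (r^(2:ℕ)*A)) =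
    (r^(5:ℕ)*s^(4:ℕ)*a^(2:ℕ) + r^(6:ℕ)*s^(4:ℕ)*A + r^(3:ℕ)*s^(4:ℕ)*a^(2:ℕ) + r^(4:ℕ)*s^(3:ℕ)*a^(2:ℕ) + r^(5:ℕ)*s^(4:ℕ) + r^(6:ℕ)*s^(2:ℕ)*A + r^(3:ℕ)*s^(3:ℕ)*a^(2:ℕ) + r^(4:ℕ)*s*a^(2:ℕ)*A + r^(4:ℕ)*s^(2:ℕ)*a*b + r^(2:ℕ)*s^(2:ℕ)*a^(2:ℕ)*A + r^(2:ℕ)*s^(3:ℕ)*a^(2:ℕ) + r^(4:ℕ)*s^(2:ℕ)*A + r^(4:ℕ)*s^(3:ℕ) + r*s^(3:ℕ)*a^(2:ℕ) + r^(2:ℕ)*s^(2:ℕ)*a*b + r^(2:ℕ)*s^(2:ℕ)*a^(2:ℕ) + s^(2:ℕ)*a^(2:ℕ)*A + r^(3:ℕ)*s^(2:ℕ) + s*a^(2:ℕ)*A + s^(2:ℕ)*a^(2:ℕ) + r^(2:ℕ)*A + r^(2:ℕ)*s) * Rb r s a A b + (r^(4:ℕ)*s^(3:ℕ)*a^(2:ℕ)*A + r^(4:ℕ)*s^(2:ℕ)*a^(2:ℕ)*A + r^(4:ℕ)*s^(3:ℕ)*a*b + r^(2:ℕ)*s^(3:ℕ)*a^(2:ℕ)*A + r^(3:ℕ)*s*a^(2:ℕ)*A^(2:ℕ)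 + r^(4:ℕ)*s^(2:ℕ)*a*b + r^(4:ℕ)*s^(3:ℕ)*A + r^(5:ℕ)*s^(3:ℕ) + r*s^(2:ℕ)*a^(2:ℕ)*A^(2:ℕ) + r^(2:ℕ)*s^(2:ℕ)*a^(2:ℕ)*A + r^(2:ℕ)*s^(3:ℕ)*a*b + r^(3:ℕ)*a^(2:ℕ)*A^(2:ℕ) + r^(3:ℕ)*s*a*A*b + r^(3:ℕ)*s^(2:ℕ)*A^(2:ℕ) + r^(3:ℕ)*s^(2:ℕ)*a^(2:ℕ) + r^(4:ℕ)*s*A^(2:ℕ) + r^(4:ℕ)*s^(2:ℕ)*A + r*s^(2:ℕ)*a*A*b + r^(2:ℕ)*a^(2:ℕ)*A^(2:ℕ) + r^(2:ℕ)*s*a^(2:ℕ)*A + r^(2:ℕ)*s^(2:ℕ)*a*b + r^(3:ℕ)*A^(3:ℕ) + r^(3:ℕ)*a*A*b + r^(4:ℕ)*A^(2:ℕ) + r^(4:ℕ)*s*A + r^(4:ℕ)*s^(2:ℕ) + s*a^(2:ℕ)*A^(2:ℕ) + r*a^(2:ℕ)*A^(2:ℕ) + r^(2:ℕ)*A^(3:ℕ) + r^(2:ℕ)*a*A*b + r^(2:ℕ)*a^(2:ℕ)*A + r^(2:ℕ)*s*A^(2:ℕ) + r^(2:ℕ)*s*a*b + r^(2:ℕ)*s*a^(2:ℕ)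 + r^(4:ℕ)*A + s*a*A*b + s*a^(2:ℕ)*A + r*a*A*b + r*s*a^(2:ℕ) + r^(2:ℕ)*s*A + r^(3:ℕ)*A + s*a*b + r*A^(2:ℕ) + r^(2:ℕ)*s + a*b + a^(2:ℕ) + r*A) * R3 r s a A +
    (r^(4:ℕ)*A^(2:ℕ) + r^(5:ℕ)*s + r^(3:ℕ)*A^(2:ℕ) + r^(3:ℕ)*a*b + r^(4:ℕ)*A + r^(2:ℕ)*a*b + r^(3:ℕ)*A + r^(3:ℕ)*s + r^(4:ℕ) + r*a*b + r^(2:ℕ)*A + r^(3:ℕ) + a*b + r*A + A + r) * R5 r s A + (r^(2:ℕ)*s*a^(2:ℕ)*A + r^(2:ℕ)*s*a*b + r^(2:ℕ)*s*a^(2:ℕ) + r^(3:ℕ)*A^(2:ℕ) + r^(3:ℕ)*s*A + s*a^(2:ℕ)*A + r^(2:ℕ)*A^(2:ℕ) + s*a*b + s*a^(2:ℕ) + r^(2:ℕ)*A + r^(2:ℕ)*s + s*A + r*A + r*s + A) * R6 r s a A := by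
  simp only [Rb, R3, R5, R6]
  grind

theorem e23 (r s a A b : F) : ((a*A + b) + (s*a + a) * (r*s + A + 1)) - (((r^(3:ℕ)*s^(2:ℕ)*a + r*s^(2:ℕ)*a + r^(2:ℕ)*a*A + r^(2:ℕ)*s*b + r^(2:ℕ)*s*a + s*a*A + a*A + s*a) * (r^(3:ℕ)*s^(3:ℕ)*a^(2:ℕ) + r^(4:ℕ)*s^(3:ℕ)*A + r^(3:ℕ)*s^(2:ℕ)*a^(2:ℕ) + r*s^(3:ℕ)*a^(2:ℕ) + r^(2:ℕ)*s^(2:ℕ)*a^(2:ℕ) + r^(3:ℕ)*s^(3:ℕ) + r^(4:ℕ)*s*A + r*s^(2:ℕ)*a^(2:ℕ) + r^(2:ℕ)*s*a*b + r^(2:ℕ)*s*a^(2:ℕ) + s^(2:ℕ)*a^(2:ℕ) + r^(2:ℕ)*s^(2:ℕ) + s*a*b + s*a^(2:ℕ) + r^(2:ℕ)*A + r*s + A + 1) + (r^(2:ℕ)*A) * (r^(3:ℕ)*s^(2:ℕ)*a + r^(2:ℕ)*s*a*A + r*s^(2:ℕ)*a + r^(2:ℕ)*a*A + r^(2:ℕ)*s*b + r^(2:ℕ)*s*a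 + s*a + b) + (s*a + a)) * (r*s + A + 1) + ((r^(3:ℕ)*s^(2:ℕ)*a + r*s^(2:ℕ)*a + r^(2:ℕ)*a*A + r^(2:ℕ)*s*b + r^(2:ℕ)*s*a + s*a*A + a*A + s*a) * (r^(3:ℕ)*s^(2:ℕ)*a + r*s^(2:ℕ)*a + r^(2:ℕ)*s*b + r^(2:ℕ)*s*a + s*a*A + a*A + s*a + b) + (r^(2:ℕ)*A) * (r^(2:ℕ)*A + A) + 1) * (b) + ((r^(3:ℕ)*s^(2:ℕ)*a + r*s^(2:ℕ)*a + r^(2:ℕ)*a*A + r^(2:ℕ)*s*b + r^(2:ℕ)*s*a + s*a*A + a*A + s*a) * (s*a + a) + (r^(2:ℕ)*A)) * (a) + (r^(3:ℕ)*s^(2:ℕ)*a + r*s^(2:ℕ)*a + r^(2:ℕ)*a*A + r^(2:ℕ)*s*b + r^(2:ℕ)*s*a + s*a*A + a*A + s*a)) =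
    (r^(5:ℕ)*s^(3:ℕ)*a + r^(3:ℕ)*s^(3:ℕ)*a + r^(4:ℕ)*s*a*A + r^(4:ℕ)*s^(2:ℕ)*b + r^(4:ℕ)*s^(2:ℕ)*a + r^(2:ℕ)*s^(2:ℕ)*a*A + r^(3:ℕ)*s^(2:ℕ)*a + r^(2:ℕ)*s*a*A + r^(2:ℕ)*s^(2:ℕ)*a + r*s^(2:ℕ)*a + r^(2:ℕ)*a*A + r^(2:ℕ)*s*b + r^(2:ℕ)*s*a + s*a*A + a*A + s*a) * Rb r s a A b + (r^(5:ℕ)*s^(4:ℕ)*a + r^(4:ℕ)*s^(3:ℕ)*a*A + r^(5:ℕ)*s^(3:ℕ)*a + r^(3:ℕ)*s^(4:ℕ)*a + r^(4:ℕ)*s^(3:ℕ)*b + r^(4:ℕ)*s^(3:ℕ)*a + r^(3:ℕ)*s*a*A^(2:ℕ) + r^(3:ℕ)*s^(2:ℕ)*A*b + r^(3:ℕ)*s^(3:ℕ)*a + r^(4:ℕ)*s*a*A + r^(4:ℕ)*s^(2:ℕ)*b + r^(4:ℕ)*s^(2:ℕ)*a + r*s^(2:ℕ)*a*A^(2:ℕ) + r^(2:ℕ)*s^(2:ℕ)*a*A + r^(2:ℕ)*s^(3:ℕ)*a + r^(3:ℕ)*a*A^(2:ℕ)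 + r^(3:ℕ)*s*A*b + r^(3:ℕ)*s^(2:ℕ)*a + r^(2:ℕ)*a*A^(2:ℕ) + r^(2:ℕ)*s*A*b + r^(2:ℕ)*s^(2:ℕ)*a + s*a*A^(2:ℕ) + r*a*A^(2:ℕ) + r*s^(2:ℕ)*a + r^(2:ℕ)*A*b + r^(2:ℕ)*s*b + r^(2:ℕ)*s*a + s*a) * R3 r s a A +
    (r^(3:ℕ)*a*A + r^(2:ℕ)*a*A + r*a*A + a*A) * R5 r s A + (r^(2:ℕ)*s*a*A + s*a*A) * R6 r s a A := by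
  simp only [Rb, R3, R5, R6]
  grind

theorem e30 (r s a A b : F) : ((r*s + A + 1) * (r^(2:ℕ)*s^(2:ℕ)*a^(2:ℕ)*A + r^(2:ℕ)*s*a^(2:ℕ)*A + s^(2:ℕ)*a^(2:ℕ)*A + s*a^(2:ℕ)*A + r*s + A + 1) + (b) * (r^(2:ℕ)*s*a*A + r^(2:ℕ)*a*A + s*a*A + b) + (a) * (a) + 1) - ((r^(3:ℕ)*s^(3:ℕ)*a^(2:ℕ) + r^(4:ℕ)*s^(3:ℕ)*A + r*s^(3:ℕ)*a^(2:ℕ) + r^(2:ℕ)*s*a^(2:ℕ)*A + r^(2:ℕ)*s^(2:ℕ)*a^(2:ℕ) + r^(3:ℕ)*s^(3:ℕ) + r^(4:ℕ)*s*A + r^(2:ℕ)*a^(2:ℕ)*A + s*a^(2:ℕ)*A + s^(2:ℕ)*a^(2:ℕ) + r^(2:ℕ)*s^(2:ℕ) + a^(2:ℕ)*A + r^(2:ℕ)*A) * (r^(3:ℕ)*s^(3:ℕ)*a^(2:ℕ) + r^(4:ℕ)*s^(3:ℕ)*A + r^(3:ℕ)*s^(2:ℕ)*a^(2:ℕ) + r*s^(3:ℕ)*a^(2:ℕ) + r^(2:ℕ)*s^(2:ℕ)*a^(2:ℕ)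 + r^(3:ℕ)*s^(3:ℕ) + r^(4:ℕ)*s*A + r*s^(2:ℕ)*a^(2:ℕ) + r^(2:ℕ)*s*a*b + r^(2:ℕ)*s*a^(2:ℕ) + s^(2:ℕ)*a^(2:ℕ) + r^(2:ℕ)*s^(2:ℕ) + s*a*b + s*a^(2:ℕ) + r^(2:ℕ)*A + r*s + A + 1) + (r^(3:ℕ)*s^(2:ℕ)*a + r^(2:ℕ)*s*a*A + r*s^(2:ℕ)*a + r^(2:ℕ)*a*A + r^(2:ℕ)*s*b + r^(2:ℕ)*s*a + s*a*A + a*A + s*a) * (r^(3:ℕ)*s^(2:ℕ)*a + r^(2:ℕ)*s*a*A + r*s^(2:ℕ)*a + r^(2:ℕ)*a*A + r^(2:ℕ)*s*b + r^(2:ℕ)*s*a + s*a + b) + (s*a) * (s*a + a) + 1) =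
    (r^(4:ℕ)*s^(2:ℕ) + r^(2:ℕ)*s + 1) * Rb r s a A b + (r^(4:ℕ)*s^(4:ℕ)*a^(2:ℕ) + r^(5:ℕ)*s^(4:ℕ)*A + r^(4:ℕ)*s^(3:ℕ)*a^(2:ℕ) + r^(5:ℕ)*s^(3:ℕ)*A + r^(2:ℕ)*s^(4:ℕ)*a^(2:ℕ) + r^(3:ℕ)*s^(2:ℕ)*a^(2:ℕ)*A + r^(4:ℕ)*s^(3:ℕ)*A + r^(4:ℕ)*s^(4:ℕ) + r^(5:ℕ)*s^(2:ℕ)*A + r^(2:ℕ)*s^(3:ℕ)*a^(2:ℕ) + r^(3:ℕ)*s^(2:ℕ)*a*b + r^(4:ℕ)*s^(2:ℕ)*A + r^(4:ℕ)*s^(3:ℕ) + r^(5:ℕ)*s*A + r*s^(2:ℕ)*a^(2:ℕ)*A + r^(2:ℕ)*s*a^(2:ℕ)*A + r^(2:ℕ)*s^(2:ℕ)*a^(2:ℕ) + r^(3:ℕ)*a^(2:ℕ)*A + r^(3:ℕ)*s^(2:ℕ)*A + r*s^(2:ℕ)*a*b + r^(2:ℕ)*a*A*b + r^(2:ℕ)*s*a*b + r^(2:ℕ)*s*a^(2:ℕ) + r^(3:ℕ)*A^(2:ℕ) + r^(3:ℕ)*s*A + s*a^(2:ℕ)*A + s^(2:ℕ)*a^(2:ℕ)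 + r*a^(2:ℕ)*A + r^(2:ℕ)*A^(2:ℕ) + r^(2:ℕ)*s*A + r^(3:ℕ)*s + a*A*b + s*a*b + s*a^(2:ℕ) + r*s*A + r^(2:ℕ)*s + A^(2:ℕ) + r*A + A) * R3 r s a A +
    (r^(4:ℕ)*A + r^(4:ℕ)*s + r^(2:ℕ)*a*b + r^(2:ℕ)*A + r^(2:ℕ)*s + a*b + r*A + r + 1) * R5 r s A + (r^(2:ℕ)*s*a*b + r^(2:ℕ)*s*a^(2:ℕ) + r^(2:ℕ)*s*A + r^(3:ℕ)*A + r^(3:ℕ)*s + s*a*b + s*a^(2:ℕ) + A + s + r + 1) * R6 r s a A := by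
  simp only [Rb, R3, R5, R6]
  grind

theorem e31 (r s a A b : F) : ((r*s + A + 1) * (r^(2:ℕ)*s*a*A + r^(2:ℕ)*a*A + s*a*A + a*A + b) + (b) * (A) + (a)) - (((r^(3:ℕ)*s^(3:ℕ)*a^(2:ℕ) + r^(4:ℕ)*s^(3:ℕ)*A + r*s^(3:ℕ)*a^(2:ℕ) + r^(2:ℕ)*s*a^(2:ℕ)*A + r^(2:ℕ)*s^(2:ℕ)*a^(2:ℕ) + r^(3:ℕ)*s^(3:ℕ) + r^(4:ℕ)*s*A + r^(2:ℕ)*a^(2:ℕ)*A + s*a^(2:ℕ)*A + s^(2:ℕ)*a^(2:ℕ) + r^(2:ℕ)*s^(2:ℕ) + a^(2:ℕ)*A + r^(2:ℕ)*A) * (r^(3:ℕ)*s^(3:ℕ)*a^(2:ℕ) + r^(4:ℕ)*s^(3:ℕ)*A + r^(3:ℕ)*s^(2:ℕ)*a^(2:ℕ) + r*s^(3:ℕ)*a^(2:ℕ) + r^(2:ℕ)*s^(2:ℕ)*a^(2:ℕ) + r^(3:ℕ)*s^(3:ℕ) + r^(4:ℕ)*s*A + r*s^(2:ℕ)*a^(2:ℕ) + r^(2:ℕ)*s*a*b + r^(2:ℕ)*s*a^(2:ℕ)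 + s^(2:ℕ)*a^(2:ℕ) + r^(2:ℕ)*s^(2:ℕ) + s*a*b + s*a^(2:ℕ) + r^(2:ℕ)*A + r*s + A + 1) + (r^(3:ℕ)*s^(2:ℕ)*a + r^(2:ℕ)*s*a*A + r*s^(2:ℕ)*a + r^(2:ℕ)*a*A + r^(2:ℕ)*s*b + r^(2:ℕ)*s*a + s*a*A + a*A + s*a) * (r^(3:ℕ)*s^(2:ℕ)*a + r^(2:ℕ)*s*a*A + r*s^(2:ℕ)*a + r^(2:ℕ)*a*A + r^(2:ℕ)*s*b + r^(2:ℕ)*s*a + s*a + b) + (s*a) * (s*a + a) + 1) * (a) + (r^(3:ℕ)*s^(3:ℕ)*a^(2:ℕ) + r^(4:ℕ)*s^(3:ℕ)*A + r*s^(3:ℕ)*a^(2:ℕ) + r^(2:ℕ)*s*a^(2:ℕ)*A + r^(2:ℕ)*s^(2:ℕ)*a^(2:ℕ) + r^(3:ℕ)*s^(3:ℕ) + r^(4:ℕ)*s*A + r^(2:ℕ)*a^(2:ℕ)*A + s*a^(2:ℕ)*A + s^(2:ℕ)*a^(2:ℕ) + r^(2:ℕ)*s^(2:ℕ) + a^(2:ℕ)*A + r^(2:ℕ)*A) * (r^(3:ℕ)*s^(2:ℕ)*a +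 r*s^(2:ℕ)*a + r^(2:ℕ)*s*b + r^(2:ℕ)*s*a + s*a*A + a*A + s*a + b) + (r^(3:ℕ)*s^(2:ℕ)*a + r^(2:ℕ)*s*a*A + r*s^(2:ℕ)*a + r^(2:ℕ)*a*A + r^(2:ℕ)*s*b + r^(2:ℕ)*s*a + s*a*A + a*A + s*a) * (r^(2:ℕ)*A + A) + (s*a)) =
    (r^(4:ℕ)*s^(2:ℕ)*a + r^(2:ℕ)*s*a) * Rb r s a A b + (r^(4:ℕ)*s^(4:ℕ)*a^(3:ℕ) + r^(5:ℕ)*s^(4:ℕ)*a*A + r^(4:ℕ)*s^(3:ℕ)*a^(3:ℕ) + r^(5:ℕ)*s^(3:ℕ)*a*A + r^(2:ℕ)*s^(4:ℕ)*a^(3:ℕ) + r^(3:ℕ)*s^(2:ℕ)*a^(3:ℕ)*A + r^(4:ℕ)*s^(3:ℕ)*a*A + r^(4:ℕ)*s^(4:ℕ)*a + r^(5:ℕ)*s^(2:ℕ)*a*A + r^(2:ℕ)*s^(3:ℕ)*a^(3:ℕ) + r^(3:ℕ)*s^(2:ℕ)*a^(2:ℕ)*b + r^(4:ℕ)*s^(2:ℕ)*a*A + r^(5:ℕ)*s*a*A + r*s^(2:ℕ)*a^(3:ℕ)*A + r^(2:ℕ)*s*a^(3:ℕ)*A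 + r^(2:ℕ)*s^(2:ℕ)*a^(3:ℕ) + r^(3:ℕ)*a^(3:ℕ)*A + r^(3:ℕ)*s^(2:ℕ)*a*A + r*s^(2:ℕ)*a^(2:ℕ)*b + r^(2:ℕ)*a^(2:ℕ)*A*b + r^(2:ℕ)*s*a^(2:ℕ)*b + r^(2:ℕ)*s*a^(3:ℕ) + r^(2:ℕ)*s^(3:ℕ)*a + r^(3:ℕ)*a*A^(2:ℕ) + r^(3:ℕ)*s*A*b + r^(3:ℕ)*s^(2:ℕ)*b + s*a^(3:ℕ)*A + s^(2:ℕ)*a^(3:ℕ) + r*a^(3:ℕ)*A + r*s^(2:ℕ)*a*A + r^(2:ℕ)*A^(2:ℕ)*b + r^(2:ℕ)*a*A^(2:ℕ) + r^(2:ℕ)*s*a*A + r^(3:ℕ)*A*b + r^(3:ℕ)*a*A + r^(3:ℕ)*s*a + a^(2:ℕ)*A*b + s*a^(2:ℕ)*b + s*a^(3:ℕ) + r^(2:ℕ)*a*A + a*A^(2:ℕ) + s*a*A + r*A*b + r*a*A + r*s*b + s*a + b) * R3 r s a A +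
    (r^(4:ℕ)*a*A + r^(3:ℕ)*A*b + r^(2:ℕ)*a*A + r^(3:ℕ)*b + r^(3:ℕ)*a + a*A + r*a + b) * R5 r s A + (r^(2:ℕ)*s*a^(2:ℕ)*b + r^(2:ℕ)*s*a^(3:ℕ) + r^(2:ℕ)*s*a*A + r^(3:ℕ)*a*A + r^(3:ℕ)*s*a + s*a^(2:ℕ)*b + s*a^(3:ℕ) + r^(2:ℕ)*A*b + r^(2:ℕ)*s*a + s*a*A + r*s*b + s*b + s*a + r*a + b + a) * R6 r s a A := by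
  simp only [Rb, R3, R5, R6]
  grind

theorem e32 (r s a A b : F) : ((r*s + A + 1) * (a) + (b)) - (((r^(3:ℕ)*s^(3:ℕ)*a^(2:ℕ) + r^(4:ℕ)*s^(3:ℕ)*A + r*s^(3:ℕ)*a^(2:ℕ) + r^(2:ℕ)*s*a^(2:ℕ)*A + r^(2:ℕ)*s^(2:ℕ)*a^(2:ℕ) + r^(3:ℕ)*s^(3:ℕ) + r^(4:ℕ)*s*A + r^(2:ℕ)*a^(2:ℕ)*A + s*a^(2:ℕ)*A + s^(2:ℕ)*a^(2:ℕ) + r^(2:ℕ)*s^(2:ℕ) + a^(2:ℕ)*A + r^(2:ℕ)*A) * (r^(3:ℕ)*s^(3:ℕ)*a^(2:ℕ) + r^(4:ℕ)*s^(3:ℕ)*A + r^(3:ℕ)*s^(2:ℕ)*a^(2:ℕ) + r*s^(3:ℕ)*a^(2:ℕ) + r^(2:ℕ)*s^(2:ℕ)*a^(2:ℕ) + r^(3:ℕ)*s^(3:ℕ) + r^(4:ℕ)*s*A + r*s^(2:ℕ)*a^(2:ℕ) + r^(2:ℕ)*s*a*b + r^(2:ℕ)*s*a^(2:ℕ) + s^(2:ℕ)*a^(2:ℕ) + r^(2:ℕ)*s^(2:ℕ) + s*a*b + s*a^(2:ℕ)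 + r^(2:ℕ)*A + r*s + A + 1) + (r^(3:ℕ)*s^(2:ℕ)*a + r^(2:ℕ)*s*a*A + r*s^(2:ℕ)*a + r^(2:ℕ)*a*A + r^(2:ℕ)*s*b + r^(2:ℕ)*s*a + s*a*A + a*A + s*a) * (r^(3:ℕ)*s^(2:ℕ)*a + r^(2:ℕ)*s*a*A + r*s^(2:ℕ)*a + r^(2:ℕ)*a*A + r^(2:ℕ)*s*b + r^(2:ℕ)*s*a + s*a + b) + (s*a) * (s*a + a) + 1) * (a*A + b) + ((r^(3:ℕ)*s^(3:ℕ)*a^(2:ℕ) + r^(4:ℕ)*s^(3:ℕ)*A + r*s^(3:ℕ)*a^(2:ℕ) + r^(2:ℕ)*s*a^(2:ℕ)*A + r^(2:ℕ)*s^(2:ℕ)*a^(2:ℕ) + r^(3:ℕ)*s^(3:ℕ) + r^(4:ℕ)*s*A + r^(2:ℕ)*a^(2:ℕ)*A + s*a^(2:ℕ)*A + s^(2:ℕ)*a^(2:ℕ) + r^(2:ℕ)*s^(2:ℕ) + a^(2:ℕ)*A + r^(2:ℕ)*A) * (r^(3:ℕ)*s^(2:ℕ)*a + r*s^(2:ℕ)*a + r^(2:ℕ)*s*b + r^(2:ℕ)*s*a + s*a*A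 + a*A + s*a + b) + (r^(3:ℕ)*s^(2:ℕ)*a + r^(2:ℕ)*s*a*A + r*s^(2:ℕ)*a + r^(2:ℕ)*a*A + r^(2:ℕ)*s*b + r^(2:ℕ)*s*a + s*a*A + a*A + s*a) * (r^(2:ℕ)*A + A) + (s*a)) * (A) + (r^(3:ℕ)*s^(3:ℕ)*a^(2:ℕ) + r^(4:ℕ)*s^(3:ℕ)*A + r*s^(3:ℕ)*a^(2:ℕ) + r^(2:ℕ)*s*a^(2:ℕ)*A + r^(2:ℕ)*s^(2:ℕ)*a^(2:ℕ) + r^(3:ℕ)*s^(3:ℕ) + r^(4:ℕ)*s*A + r^(2:ℕ)*a^(2:ℕ)*A + s*a^(2:ℕ)*A + s^(2:ℕ)*a^(2:ℕ) + r^(2:ℕ)*s^(2:ℕ) + a^(2:ℕ)*A + r^(2:ℕ)*A) * (s*a + a) + (r^(3:ℕ)*s^(2:ℕ)*a + r^(2:ℕ)*s*a*A + r*s^(2:ℕ)*a + r^(2:ℕ)*a*A + r^(2:ℕ)*s*b + r^(2:ℕ)*s*a + s*a*A + a*A + s*a)) =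
    (r^(5:ℕ)*s^(4:ℕ)*a^(3:ℕ) + r^(6:ℕ)*s^(4:ℕ)*a*A + r^(4:ℕ)*s^(2:ℕ)*a^(3:ℕ)*A + r^(4:ℕ)*s^(3:ℕ)*a^(3:ℕ) + r^(4:ℕ)*s^(4:ℕ)*a*A + r^(5:ℕ)*s^(4:ℕ)*a + r^(6:ℕ)*s^(2:ℕ)*a*A + r^(4:ℕ)*s*a^(3:ℕ)*A + r*s^(4:ℕ)*a^(3:ℕ) + r^(3:ℕ)*s^(4:ℕ)*a + r^(4:ℕ)*s^(2:ℕ)*a*A + r^(4:ℕ)*s^(3:ℕ)*a + r^(4:ℕ)*s*a*A + r^(4:ℕ)*s^(2:ℕ)*b + s^(2:ℕ)*a^(3:ℕ)*A + s^(3:ℕ)*a^(3:ℕ) + r^(2:ℕ)*s^(2:ℕ)*a*A + r^(2:ℕ)*s^(3:ℕ)*a + r^(3:ℕ)*s^(2:ℕ)*a + s*a^(3:ℕ)*A + r^(2:ℕ)*s*a*A + r*s^(2:ℕ)*a + r^(2:ℕ)*a*A + r^(2:ℕ)*s*b + r^(2:ℕ)*s*a + s*a*A + a*A + s*a) * Rb r s a A b + (r^(4:ℕ)*s^(4:ℕ)*a^(3:ℕ)*A + r^(5:ℕ)*s^(4:ℕ)*a*A^(2:ℕ) + r^(4:ℕ)*s^(3:ℕ)*a^(3:ℕ)*A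 + r^(4:ℕ)*s^(4:ℕ)*a^(2:ℕ)*b + r^(5:ℕ)*s^(3:ℕ)*a*A^(2:ℕ) + r^(5:ℕ)*s^(4:ℕ)*A*b + r^(2:ℕ)*s^(4:ℕ)*a^(3:ℕ)*A + r^(3:ℕ)*s^(2:ℕ)*a^(3:ℕ)*A^(2:ℕ) + r^(4:ℕ)*s^(3:ℕ)*a*A^(2:ℕ) + r^(4:ℕ)*s^(3:ℕ)*a^(2:ℕ)*b + r^(4:ℕ)*s^(4:ℕ)*a*A + r^(5:ℕ)*s^(2:ℕ)*a*A^(2:ℕ) + r^(5:ℕ)*s^(3:ℕ)*A*b + r^(2:ℕ)*s^(3:ℕ)*a^(3:ℕ)*A + r^(2:ℕ)*s^(4:ℕ)*a^(2:ℕ)*b + r^(3:ℕ)*s^(2:ℕ)*a^(2:ℕ)*A*b + r^(4:ℕ)*s^(2:ℕ)*a*A^(2:ℕ) + r^(4:ℕ)*s^(3:ℕ)*A*b + r^(4:ℕ)*s^(3:ℕ)*a*A + r^(4:ℕ)*s^(4:ℕ)*b + r^(5:ℕ)*s*a*A^(2:ℕ) + r^(5:ℕ)*s^(2:ℕ)*A*b + r^(5:ℕ)*s^(3:ℕ)*a + r*s^(2:ℕ)*a^(3:ℕ)*A^(2:ℕ) + r^(2:ℕ)*s*a^(3:ℕ)*A^(2:ℕ) + r^(2:ℕ)*s^(2:ℕ)*a^(3:ℕ)*A +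 r^(2:ℕ)*s^(3:ℕ)*a^(2:ℕ)*b + r^(3:ℕ)*a^(3:ℕ)*A^(2:ℕ) + r^(3:ℕ)*s^(2:ℕ)*a^(3:ℕ) + r^(4:ℕ)*s^(2:ℕ)*A*b + r^(4:ℕ)*s^(3:ℕ)*b + r^(5:ℕ)*s*A*b + r*s^(2:ℕ)*a^(2:ℕ)*A*b + r^(2:ℕ)*s*a^(2:ℕ)*A*b + r^(2:ℕ)*s*a^(3:ℕ)*A + r^(2:ℕ)*s^(2:ℕ)*a^(2:ℕ)*b + r^(3:ℕ)*a*A^(3:ℕ) + r^(3:ℕ)*a^(2:ℕ)*A*b + r^(3:ℕ)*s*a*A^(2:ℕ) + r^(3:ℕ)*s^(3:ℕ)*a + r^(4:ℕ)*s*a*A + r^(4:ℕ)*s^(2:ℕ)*a + s*a^(3:ℕ)*A^(2:ℕ) + s^(2:ℕ)*a^(3:ℕ)*A + r*a^(3:ℕ)*A^(2:ℕ) + r*s^(2:ℕ)*a^(3:ℕ) + r^(2:ℕ)*a^(3:ℕ)*A + r^(2:ℕ)*s*a^(2:ℕ)*b + r^(2:ℕ)*s*a^(3:ℕ) + r^(3:ℕ)*A^(2:ℕ)*b + r^(3:ℕ)*s*A*b + r^(3:ℕ)*s^(2:ℕ)*a + r^(4:ℕ)*a*A + s*a^(2:ℕ)*A*b + s*a^(3:ℕ)*A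 + s^(2:ℕ)*a^(2:ℕ)*b + r*a^(2:ℕ)*A*b + r*s*a*A^(2:ℕ) + r^(2:ℕ)*a*A^(2:ℕ) + r^(2:ℕ)*s^(2:ℕ)*a + r^(3:ℕ)*a*A + r^(3:ℕ)*s*b + a^(3:ℕ)*A + s*a^(2:ℕ)*b + s*a^(3:ℕ) + r*s*A*b + r^(2:ℕ)*a*A + r^(2:ℕ)*s*b + a*A^(2:ℕ) + r*a*A + r*s*a + A*b + a) * R3 r s a A +
    (r^(4:ℕ)*a*A^(2:ℕ) + r^(4:ℕ)*s*a*A + r^(5:ℕ)*s*a + r^(4:ℕ)*A*b + r^(4:ℕ)*s*b + r^(2:ℕ)*s*a*A + r^(3:ℕ)*a*A + r^(3:ℕ)*s*a + r^(4:ℕ)*a + r^(2:ℕ)*a*A + r^(2:ℕ)*s*b + r^(3:ℕ)*a + r^(2:ℕ)*a + a*A + a) * R5 r s A + (r^(2:ℕ)*s*a^(3:ℕ)*A + r^(2:ℕ)*s*a^(2:ℕ)*b + r^(2:ℕ)*s*a^(3:ℕ) + r^(3:ℕ)*a*A^(2:ℕ) + r^(3:ℕ)*s*a*A + s*a^(3:ℕ)*A + r^(3:ℕ)*A*b + r^(3:ℕ)*s*b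 + s*a^(2:ℕ)*b + s*a^(3:ℕ) + r^(2:ℕ)*a*A + r*a*A + r*s*a + a*A + s*a + r*b + b + a) * R6 r s a A := by
  simp only [Rb, R3, R5, R6]
  grind

theorem e33 (r s a A b : F) : ((r*s + A + 1)) - (((r^(3:ℕ)*s^(3:ℕ)*a^(2:ℕ) + r^(4:ℕ)*s^(3:ℕ)*A + r*s^(3:ℕ)*a^(2:ℕ) + r^(2:ℕ)*s*a^(2:ℕ)*A + r^(2:ℕ)*s^(2:ℕ)*a^(2:ℕ) + r^(3:ℕ)*s^(3:ℕ) + r^(4:ℕ)*s*A + r^(2:ℕ)*a^(2:ℕ)*A + s*a^(2:ℕ)*A + s^(2:ℕ)*a^(2:ℕ) + r^(2:ℕ)*s^(2:ℕ) + a^(2:ℕ)*A + r^(2:ℕ)*A) * (r^(3:ℕ)*s^(3:ℕ)*a^(2:ℕ) + r^(4:ℕ)*s^(3:ℕ)*A + r^(3:ℕ)*s^(2:ℕ)*a^(2:ℕ) + r*s^(3:ℕ)*a^(2:ℕ) + r^(2:ℕ)*s^(2:ℕ)*a^(2:ℕ) + r^(3:ℕ)*s^(3:ℕ) + r^(4:ℕ)*s*A + r*s^(2:ℕ)*a^(2:ℕ)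 + r^(2:ℕ)*s*a*b + r^(2:ℕ)*s*a^(2:ℕ) + s^(2:ℕ)*a^(2:ℕ) + r^(2:ℕ)*s^(2:ℕ) + s*a*b + s*a^(2:ℕ) + r^(2:ℕ)*A + r*s + A + 1) + (r^(3:ℕ)*s^(2:ℕ)*a + r^(2:ℕ)*s*a*A + r*s^(2:ℕ)*a + r^(2:ℕ)*a*A + r^(2:ℕ)*s*b + r^(2:ℕ)*s*a + s*a*A + a*A + s*a) * (r^(3:ℕ)*s^(2:ℕ)*a + r^(2:ℕ)*s*a*A + r*s^(2:ℕ)*a + r^(2:ℕ)*a*A + r^(2:ℕ)*s*b + r^(2:ℕ)*s*a + s*a + b) + (s*a) * (s*a + a) + 1) * (r*s + A + 1) + ((r^(3:ℕ)*s^(3:ℕ)*a^(2:ℕ) + r^(4:ℕ)*s^(3:ℕ)*A + r*s^(3:ℕ)*a^(2:ℕ) + r^(2:ℕ)*s*a^(2:ℕ)*A + r^(2:ℕ)*s^(2:ℕ)*a^(2:ℕ) + r^(3:ℕ)*s^(3:ℕ) + r^(4:ℕ)*s*A + r^(2:ℕ)*a^(2:ℕ)*A + s*a^(2:ℕ)*A + s^(2:ℕ)*a^(2:ℕ) + r^(2:ℕ)*s^(2:ℕ)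 + a^(2:ℕ)*A + r^(2:ℕ)*A) * (r^(3:ℕ)*s^(2:ℕ)*a + r*s^(2:ℕ)*a + r^(2:ℕ)*s*b + r^(2:ℕ)*s*a + s*a*A + a*A + s*a + b) + (r^(3:ℕ)*s^(2:ℕ)*a + r^(2:ℕ)*s*a*A + r*s^(2:ℕ)*a + r^(2:ℕ)*a*A + r^(2:ℕ)*s*b + r^(2:ℕ)*s*a + s*a*A + a*A + s*a) * (r^(2:ℕ)*A + A) + (s*a)) * (b) + ((r^(3:ℕ)*s^(3:ℕ)*a^(2:ℕ) + r^(4:ℕ)*s^(3:ℕ)*A + r*s^(3:ℕ)*a^(2:ℕ) + r^(2:ℕ)*s*a^(2:ℕ)*A + r^(2:ℕ)*s^(2:ℕ)*a^(2:ℕ) + r^(3:ℕ)*s^(3:ℕ) + r^(4:ℕ)*s*A + r^(2:ℕ)*a^(2:ℕ)*A + s*a^(2:ℕ)*A + s^(2:ℕ)*a^(2:ℕ) + r^(2:ℕ)*s^(2:ℕ) + a^(2:ℕ)*A + r^(2:ℕ)*A) * (s*a + a) + (r^(3:ℕ)*s^(2:ℕ)*a + r^(2:ℕ)*s*a*A + r*s^(2:ℕ)*a + r^(2:ℕ)*a*A + r^(2:ℕ)*s*b +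 r^(2:ℕ)*s*a + s*a*A + a*A + s*a)) * (a) + (r^(3:ℕ)*s^(3:ℕ)*a^(2:ℕ) + r^(4:ℕ)*s^(3:ℕ)*A + r*s^(3:ℕ)*a^(2:ℕ) + r^(2:ℕ)*s*a^(2:ℕ)*A + r^(2:ℕ)*s^(2:ℕ)*a^(2:ℕ) + r^(3:ℕ)*s^(3:ℕ) + r^(4:ℕ)*s*A + r^(2:ℕ)*a^(2:ℕ)*A + s*a^(2:ℕ)*A + s^(2:ℕ)*a^(2:ℕ) + r^(2:ℕ)*s^(2:ℕ) + a^(2:ℕ)*A + r^(2:ℕ)*A)) =
    (r^(5:ℕ)*s^(4:ℕ)*a^(2:ℕ) + r^(6:ℕ)*s^(4:ℕ)*A + r^(3:ℕ)*s^(4:ℕ)*a^(2:ℕ) + r^(4:ℕ)*s^(2:ℕ)*a^(2:ℕ)*A + r^(4:ℕ)*s^(3:ℕ)*a^(2:ℕ) + r^(5:ℕ)*s^(4:ℕ) + r^(6:ℕ)*s^(2:ℕ)*A + r^(3:ℕ)*s^(3:ℕ)*a^(2:ℕ) + r^(4:ℕ)*s*a^(2:ℕ)*A + r^(4:ℕ)*s^(3:ℕ)*A + r^(5:ℕ)*s^(3:ℕ) + r^(2:ℕ)*s^(2:ℕ)*a^(2:ℕ)*A + r^(2:ℕ)*s^(3:ℕ)*a^(2:ℕ) + r^(4:ℕ)*s^(2:ℕ)*A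 + r^(4:ℕ)*s^(3:ℕ) + r*s^(3:ℕ)*a^(2:ℕ) + r^(2:ℕ)*s^(2:ℕ)*a^(2:ℕ) + r^(3:ℕ)*s^(3:ℕ) + r^(4:ℕ)*s*A + r^(4:ℕ)*s^(2:ℕ) + r^(2:ℕ)*a^(2:ℕ)*A + r^(3:ℕ)*s^(2:ℕ) + s*a^(2:ℕ)*A + s^(2:ℕ)*a^(2:ℕ) + r^(2:ℕ)*s^(2:ℕ) + a^(2:ℕ)*A + r^(2:ℕ)*A + r^(2:ℕ)*s) * Rb r s a A b + (r^(5:ℕ)*s^(5:ℕ)*a^(2:ℕ) + r^(6:ℕ)*s^(5:ℕ)*A + r^(4:ℕ)*s^(4:ℕ)*a^(2:ℕ)*A + r^(5:ℕ)*s^(4:ℕ)*A^(2:ℕ) + r^(5:ℕ)*s^(4:ℕ)*a^(2:ℕ) + r^(6:ℕ)*s^(4:ℕ)*A + r^(3:ℕ)*s^(5:ℕ)*a^(2:ℕ) + r^(4:ℕ)*s^(4:ℕ)*a^(2:ℕ) + r^(5:ℕ)*s^(3:ℕ)*A^(2:ℕ) + r^(5:ℕ)*s^(5:ℕ) + r^(6:ℕ)*s^(3:ℕ)*A + r^(2:ℕ)*s^(4:ℕ)*a^(2:ℕ)*A + r^(3:ℕ)*s^(2:ℕ)*a^(2:ℕ)*A^(2:ℕ) + r^(3:ℕ)*s^(4:ℕ)*a^(2:ℕ)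 + r^(4:ℕ)*s^(3:ℕ)*A^(2:ℕ) + r^(4:ℕ)*s^(3:ℕ)*a^(2:ℕ) + r^(4:ℕ)*s^(4:ℕ)*A + r^(5:ℕ)*s^(2:ℕ)*A^(2:ℕ) + r^(5:ℕ)*s^(4:ℕ) + r^(6:ℕ)*s^(2:ℕ)*A + r^(2:ℕ)*s^(4:ℕ)*a^(2:ℕ) + r^(3:ℕ)*s^(3:ℕ)*a^(2:ℕ) + r^(4:ℕ)*s*a^(2:ℕ)*A + r^(4:ℕ)*s^(2:ℕ)*A^(2:ℕ) + r^(4:ℕ)*s^(4:ℕ) + r^(5:ℕ)*s*A^(2:ℕ) + r^(5:ℕ)*s^(3:ℕ) + r*s^(2:ℕ)*a^(2:ℕ)*A^(2:ℕ) + r^(2:ℕ)*s*a^(2:ℕ)*A^(2:ℕ) + r^(2:ℕ)*s^(2:ℕ)*a^(2:ℕ)*A + r^(2:ℕ)*s^(3:ℕ)*a^(2:ℕ) + r^(3:ℕ)*a^(2:ℕ)*A^(2:ℕ) + r^(4:ℕ)*s^(2:ℕ)*A + r^(4:ℕ)*s^(3:ℕ) + r*s^(3:ℕ)*a^(2:ℕ) + r^(2:ℕ)*s*a^(2:ℕ)*A + r^(2:ℕ)*s^(2:ℕ)*a^(2:ℕ) + r^(3:ℕ)*A^(3:ℕ) + r^(4:ℕ)*s^(2:ℕ) + s*a^(2:ℕ)*A^(2:ℕ) + s^(2:ℕ)*a^(2:ℕ)*A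 + r*a^(2:ℕ)*A^(2:ℕ) + r^(2:ℕ)*a^(2:ℕ)*A + r^(2:ℕ)*s^(2:ℕ)*A + r^(3:ℕ)*s*A + s^(2:ℕ)*a^(2:ℕ) + r*s*A^(2:ℕ) + r^(2:ℕ)*A^(2:ℕ) + a^(2:ℕ)*A + r^(2:ℕ)*A + A^(2:ℕ) + A) * R3 r s a A +
    (r^(5:ℕ)*s^(2:ℕ) + r^(4:ℕ)*A^(2:ℕ) + r^(3:ℕ)*s^(2:ℕ) + r^(4:ℕ)*s + r^(2:ℕ)*a*b + r^(2:ℕ)*s*A + r^(3:ℕ)*A + r^(3:ℕ)*s + r^(2:ℕ)*s + a*b + r) * R5 r s A + (r^(2:ℕ)*s*a^(2:ℕ)*A + r^(3:ℕ)*A^(2:ℕ) + s*a^(2:ℕ)*A + r^(2:ℕ)*A + r^(2:ℕ)*s + r*A + A + 1) * R6 r s a A := by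
  simp only [Rb, R3, R5, R6]
  grind

omit [CharP F 2] in
theorem canc {x y p q t o u v w z : F} (h : x - y = p * u + q * v + t * w + o * z) (hu : u = 0) (hv : v = 0)
    (hw : w = 0) (hz : z = 0) : x = y := by
  rw [hu, hv, hw, hz, mul_zero, mul_zero, mul_zero, mul_zero, add_zero, add_zero, add_zero] at h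
  exact sub_eq_zero.1 h

theorem key {r s a A b : F} (hs : s ≠ 0) (hb : Rb r s a A b = 0)
    (h3 : R3 r s a A = 0) (h5 : R5 r s A = 0) :
    U (s*a + a) (r^(3:ℕ)*s^(2:ℕ)*a + r^(2:ℕ)*s*a*A + r*s^(2:ℕ)*a + r^(2:ℕ)*s*b + r^(2:ℕ)*s*a + s*a*A + s*a + b) (r^(3:ℕ)*s^(3:ℕ)*a^(2:ℕ) + r^(4:ℕ)*s^(3:ℕ)*A + r^(3:ℕ)*s^(2:ℕ)*a^(2:ℕ) + r*s^(3:ℕ)*a^(2:ℕ) + r^(2:ℕ)*s*a^(2:ℕ)*A + r^(2:ℕ)*s^(2:ℕ)*a^(2:ℕ) + r^(3:ℕ)*s^(3:ℕ) + r^(4:ℕ)*s*A + r*s^(2:ℕ)*a^(2:ℕ) + r^(2:ℕ)*s*a*b + r^(2:ℕ)*s*a^(2:ℕ) + s*a^(2:ℕ)*A + s^(2:ℕ)*a^(2:ℕ) + r^(2:ℕ)*s^(2:ℕ) + s*a*b + s*a^(2:ℕ) + r^(2:ℕ)*A + r*s + A + 1) (r^(2:ℕ)*A + A) (r^(3:ℕ)*s^(2:ℕ)*a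 + r*s^(2:ℕ)*a + r^(2:ℕ)*a*A + r^(2:ℕ)*s*b + r^(2:ℕ)*s*a + a*A + s*a + b) (s*a + a) *
    (Jm * U (a) (b) (r*s + A + 1) (A) (a*A + b) (a) * Jm *
    U (a) (r^(2:ℕ)*s*a*A + r^(2:ℕ)*a*A + s*a*A + a*A + b) (r^(2:ℕ)*s^(2:ℕ)*a^(2:ℕ)*A + r^(2:ℕ)*s*a^(2:ℕ)*A + s^(2:ℕ)*a^(2:ℕ)*A + s*a^(2:ℕ)*A + r*s + A + 1) (A) (r^(2:ℕ)*s*a*A + r^(2:ℕ)*a*A + s*a*A + b) (a) * Jm) =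
    Jm * U (s*a) (r^(3:ℕ)*s^(2:ℕ)*a + r^(2:ℕ)*s*a*A + r*s^(2:ℕ)*a + r^(2:ℕ)*a*A + r^(2:ℕ)*s*b + r^(2:ℕ)*s*a + s*a*A + a*A + s*a) (r^(3:ℕ)*s^(3:ℕ)*a^(2:ℕ) + r^(4:ℕ)*s^(3:ℕ)*A + r*s^(3:ℕ)*a^(2:ℕ) + r^(2:ℕ)*s*a^(2:ℕ)*A + r^(2:ℕ)*s^(2:ℕ)*a^(2:ℕ) + r^(3:ℕ)*s^(3:ℕ) + r^(4:ℕ)*s*A + r^(2:ℕ)*a^(2:ℕ)*A + s*a^(2:ℕ)*A + s^(2:ℕ)*a^(2:ℕ) + r^(2:ℕ)*s^(2:ℕ) + a^(2:ℕ)*A + r^(2:ℕ)*A) (r^(2:ℕ)*A) (r^(3:ℕ)*s^(2:ℕ)*a + r*s^(2:ℕ)*a + r^(2:ℕ)*a*A + r^(2:ℕ)*s*b + r^(2:ℕ)*s*a + s*a*A + a*A + s*a) (s*a) * Jm *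
    U (s*a + a) (r^(3:ℕ)*s^(2:ℕ)*a + r*s^(2:ℕ)*a + r^(2:ℕ)*s*b + r^(2:ℕ)*s*a + s*a*A + a*A + s*a + b) (r^(3:ℕ)*s^(3:ℕ)*a^(2:ℕ) + r^(4:ℕ)*s^(3:ℕ)*A + r^(3:ℕ)*s^(2:ℕ)*a^(2:ℕ) + r*s^(3:ℕ)*a^(2:ℕ) + r^(2:ℕ)*s^(2:ℕ)*a^(2:ℕ) + r^(3:ℕ)*s^(3:ℕ) + r^(4:ℕ)*s*A + r*s^(2:ℕ)*a^(2:ℕ) + r^(2:ℕ)*s*a*b + r^(2:ℕ)*s*a^(2:ℕ) + s^(2:ℕ)*a^(2:ℕ) + r^(2:ℕ)*s^(2:ℕ) + s*a*b + s*a^(2:ℕ) + r^(2:ℕ)*A + r*s + A + 1) (r^(2:ℕ)*A + A) (r^(3:ℕ)*s^(2:ℕ)*a + r^(2:ℕ)*s*a*A + r*s^(2:ℕ)*a + r^(2:ℕ)*a*A + r^(2:ℕ)*s*b + r^(2:ℕ)*s*a + s*a + b) (s*a + a) * Jm *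
    U (a) (a*A + b) (r*s + A + 1) (A) (b) (a) :=
  hex (canc (e00 r s a A b) hb h3 h5 (r6 hs h3 h5))
    (canc (e01 r s a A b) hb h3 h5 (r6 hs h3 h5))
    (canc (e02 r s a A b) hb h3 h5 (r6 hs h3 h5))
    (canc (e03 r s a A b) hb h3 h5 (r6 hs h3 h5))
    (canc (e10 r s a A b) hb h3 h5 (r6 hs h3 h5))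
    (canc (e11 r s a A b) hb h3 h5 (r6 hs h3 h5))
    (canc (e12 r s a A b) hb h3 h5 (r6 hs h3 h5))
    (canc (e13 r s a A b) hb h3 h5 (r6 hs h3 h5))
    (canc (e20 r s a A b) hb h3 h5 (r6 hs h3 h5))
    (canc (e21 r s a A b) hb h3 h5 (r6 hs h3 h5))
    (canc (e22 r s a A b) hb h3 h5 (r6 hs h3 h5))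
    (canc (e23 r s a A b) hb h3 h5 (r6 hs h3 h5))
    (canc (e30 r s a A b) hb h3 h5 (r6 hs h3 h5))
    (canc (e31 r s a A b) hb h3 h5 (r6 hs h3 h5))
    (canc (e32 r s a A b) hb h3 h5 (r6 hs h3 h5))
    (canc (e33 r s a A b) hb h3 h5 (r6 hs h3 h5))

end H10.BG
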