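import Cfsg.Agent.H10.BG.C
import Cfsg.Agent.H10.BG.E
import Cfsg.Agent.H23.MinS2

/-! The law of Bandman, Greuel, Grunewald, Kunyavskii, Pfister and Plotkin; the groups `L₂(q)`, `L₃(3)`. -/

set_option autoImplicit false

namespace H10.BG
open Subgroup H23.MinS
open scoped MatrixGroups commutatorElement

variable {G : Type*} [Group G]

/-- one step -/
def st (x y v : G) : G := (x * v * x⁻¹) * (y * v * y⁻¹) * (x * v * x⁻¹)⁻¹ * (y * v * y⁻¹)⁻¹

/-- the law -/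
def Law (G : Type*) [Group G] : Prop :=
  ∃ n : ℕ, ∀ x y : G, @Nat.rec (fun _ => G) (x⁻¹ * x⁻¹ * y⁻¹ * x) (fun _ v => st x y v) n = 1

theorem map_st {H : Type*} [Group H] (f : G →* H) (x y : G) (n : ℕ) :
    f (@Nat.rec (fun _ => G) (x⁻¹ * x⁻¹ * y⁻¹ * x) (fun _ v => st x y v) n) =
      @Nat.rec (fun _ => H) ((f x)⁻¹ * (f x)⁻¹ * (f y)⁻¹ * f x) (fun _ v => st (f x) (f y) v) n := by
  induction n with
  | zero => simp
  | succ n ih =>
    change f (st x y _) = st (f x) (f y) _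
    rw [← ih]
    simp only [st, map_mul, map_inv]

theorem Law.inj {H : Type*} [Group H] (f : G →* H) (hf : Function.Injective f) (h : Law H) : Law G :=
  let ⟨n, h⟩ := h; ⟨n, fun x y => hf (by rw [map_st, h, map_one])⟩

theorem Law.surj {H : Type*} [Group H] (f : G →* H) (hf : Function.Surjective f) (h : Law G) : Law H := by
  obtain ⟨n, h⟩ := h
  refine ⟨n, fun x y => ?_⟩
  obtain ⟨x, rfl⟩ := hf x
  obtain ⟨y, rfl⟩ := hf y
  rw [← map_st, h, map_one]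

theorem law_of_solv (h : Group.IsSolvable G) : Law G := by
  obtain ⟨n, hn⟩ := h
  refine ⟨n, fun x y => mem_bot.1 (hn ▸ ?_)⟩
  clear hn
  induction n with
  | zero => exact mem_top _
  | succ n ih =>
    exact commutator_mem_commutator ((derivedSeries_normal G n).conj_mem _ ih x)
      ((derivedSeries_normal G n).conj_mem _ ih y)

theorem not_law {x y : G} (h : y * x⁻¹ * x⁻¹ * y⁻¹ * x * y⁻¹ = x⁻¹ * y * x⁻¹ * y⁻¹ * x * x) (h1 : x * y ≠ 1) :
    ¬ Law G := by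
  rintro ⟨n, hn⟩
  have e : st x y (x⁻¹ * x⁻¹ * y⁻¹ * x) = x⁻¹ * x⁻¹ * y⁻¹ * x := by
    have h' : y * (x⁻¹ * x⁻¹ * y⁻¹ * x) * y⁻¹ = x⁻¹ * y * x⁻¹ * y⁻¹ * x * x := by rw [← h]; group
    rw [st]
    nth_rewrite 2 [h']
    group
  have k : ∀ n : ℕ, @Nat.rec (fun _ => G) (x⁻¹ * x⁻¹ * y⁻¹ * x) (fun _ v => st x y v) n =
      x⁻¹ * x⁻¹ * y⁻¹ * x := fun n => by
    induction n with
    | zero => rfl
    | succ n ih => exact (congrArg (st x y) ih).trans e
  refine h1 ?_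
  have := (k n).symm.trans (hn x y)
  calc x * y = x * x * (x⁻¹ * x⁻¹ * y⁻¹ * x)⁻¹ * (x * x)⁻¹ := by group
    _ = 1 := by rw [this]; group

variable {F : Type*} [Field F]

theorem rel_sl {t u s : F} (x y : SL(2, F)) (hx : x 0 0 = t ∧ x 0 1 = -1 ∧ x 1 0 = 1 ∧ x 1 1 = 0) (h1 : t * u = 1)
    (h2 : (s - 2) * (s + 2 - t ^ 2) + u ^ 2 = 0) (h3 : y 1 1 = t - u - y 0 0) (h4 : y 0 1 = y 1 0 + s - t * y 0 0) :
    y * x⁻¹ * x⁻¹ * y⁻¹ * x * y⁻¹ = x⁻¹ * y * x⁻¹ * y⁻¹ * x * x := by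
  have hd := H11.sl2_det y
  rw [h3, h4] at hd
  ext i j
  fin_cases i <;> fin_cases j <;> simp only [Fin.zero_eta, Fin.mk_one, m_ap, i_ap, hx, h3, h4] <;>
    generalize y 0 0 = a at * <;> generalize y 1 0 = c at * <;> clear hx h3 h4 <;> grind

theorem not_law_q {ι : Type*} [Fintype ι] [DecidableEq ι] {x y : Matrix.SpecialLinearGroup ι F}
    (h : y * x⁻¹ * x⁻¹ * y⁻¹ * x * y⁻¹ = x⁻¹ * y * x⁻¹ * y⁻¹ * x * x)
    (h1 : ¬ ∃ r : F, ∀ i j, (x * y) i j = if i = j then r else 0) :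
    ¬ Law (Matrix.ProjectiveSpecialLinearGroup ι F) :=
  not_law (x := QuotientGroup.mk' (center _) x) (y := QuotientGroup.mk' (center _) y)
    (by simpa only [map_mul, map_inv] using congrArg (QuotientGroup.mk' (center _)) h)
    fun c => h1 (off_eq_zero (by rw [map_mul, c]))

theorem exists_conic [Fintype F] {t u s : F} (h1 : t * u = 1) (h2 : (s - 2) * (s + 2 - t ^ 2) + u ^ 2 = 0) :
    ∃ a c : F, a * (t - u - a) - (c + s - t * a) * c = 1 := by
  by_cases e : (2 : F) = 0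
  · haveI := CharTwo.of_one_ne_zero_of_two_eq_zero (R := F) one_ne_zero e
    obtain ⟨c, hc⟩ := FiniteField.isSquare_of_char_two (F := F) (ringChar.eq F 2) (s * u * (t - u - s * u) + 1)
    exact ⟨s * u, c, by grind⟩
  obtain ⟨v, hv⟩ : ∃ v : F, 2 * v = 1 := ⟨2⁻¹, mul_inv_cancel₀ e⟩
  obtain ⟨a, z, h⟩ : ∃ a z : F, z ^ 2 = (t ^ 2 - 4) * a ^ 2 + (4 * (t - u) - 2 * s * t) * a + (s ^ 2 - 4) := by
    by_cases c : t ^ 2 - 4 = 0
    · have : 4 * (t - u) - 2 * s * t ≠ 0 := by grind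
      exact ⟨-(s ^ 2 - 4) / (4 * (t - u) - 2 * s * t), 0, by rw [c, mul_div_cancel₀ _ this]; ring⟩
    · obtain ⟨z, a, h⟩ := FiniteField.exists_root_sum_quadratic (R := F) (f := Polynomial.X ^ 2)
        (g := Polynomial.C (-(t ^ 2 - 4)) * Polynomial.X ^ 2 + Polynomial.C (-(4 * (t - u) - 2 * s * t)) *
          Polynomial.X + Polynomial.C (-(s ^ 2 - 4))) (Polynomial.degree_X_pow 2)
        (Polynomial.degree_quadratic (neg_ne_zero.2 c)) (Nat.odd_iff.1 (H27.two_ne_zero_iff_odd.1 e))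
      exact ⟨a, z, by simp at h; linear_combination h⟩
  exact ⟨a, (z - s + t * a) * v, by grind⟩

theorem not_law_two [Fintype F] (h : Cv F) : ¬ Law PSL(2, F) := by
  obtain ⟨t, r, t0, h⟩ := h
  obtain ⟨u, h1⟩ : ∃ u, t * u = 1 := ⟨t⁻¹, mul_inv_cancel₀ t0⟩
  have h2 : (2 + r * u - 2) * (2 + r * u + 2 - t ^ 2) + u ^ 2 = 0 := by grind
  generalize 2 + r * u = s at h2
  clear h
  obtain ⟨a, c, h⟩ := exists_conic h1 h2
  obtain ⟨x, hx⟩ := ex_sl (F := F) (a := t) (b := -1) (c := 1) (d := 0) (by simp)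
  obtain ⟨y, hy⟩ := ex_sl h
  refine not_law_q (rel_sl x y hx h1 h2 (by simp only [hy]) (by simp only [hy])) ?_
  rintro ⟨k, hk⟩
  have e1 := hk 0 0
  have e2 := hk 0 1
  have e3 := hk 1 0
  have e4 := hk 1 1
  simp only [m_ap, hx, hy, if_true, zero_ne_one, one_ne_zero, if_false] at e1 e2 e3 e4
  clear hk hx hy
  have e5 : (2 : F) ^ 3 = 0 := by grind
  have e6 := pow_eq_zero_iff three_ne_zero |>.1 e5
  grind

theorem not_law_33 [Fintype F] (h : Fintype.card F = 3) : ¬ Law PSL(3, F) := by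
  haveI : CharP F 3 := charP_of_card_eq_prime h
  let f : SL(3, ZMod 3) →* SL(3, F) := Matrix.SpecialLinearGroup.map (ZMod.castHom dvd_rfl F)
  let x : SL(3, ZMod 3) := ⟨!![0, 1, 0; 1, 1, 0; 1, 0, 2], by decide +kernel⟩
  let y : SL(3, ZMod 3) := ⟨!![0, 0, 1; 0, 1, 1; 2, 1, 2], by decide +kernel⟩
  have e : y * x⁻¹ * x⁻¹ * y⁻¹ * x * y⁻¹ = x⁻¹ * y * x⁻¹ * y⁻¹ * x * x := by decide +kernel
  refine not_law_q (x := f x) (y := f y) (by simpa only [map_mul, map_inv] using congrArg f e) ?_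
  rintro ⟨k, hk⟩
  have := hk 0 1
  rw [← map_mul] at this
  change ZMod.castHom dvd_rfl F ((x * y) 0 1) = _ at this
  rw [show (x * y) 0 1 = 1 by decide +kernel] at this
  simp at this

theorem not_law_sz (h : Cfsg.Lie.IsoSuzuki G) : ¬ Law G := by
  obtain ⟨F, _, _, m, m1, h2, ⟨e⟩⟩ := h
  letI := H23.Sz.titsOfCard h2
  letI := (H23.Sz.lieModel h2).ofEquiv e
  obtain ⟨x, y, h, h'⟩ := exists_sz (G := G) m1 h2 (H23.Sz.titsOfCard_θ h2)
  exact not_law h h'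

universe u

theorem s3935 (ms : MS.{u}) {G : Type u} [Group G] [Finite G] : Group.IsSolvable G ↔ Law G := by
  refine ⟨law_of_solv, red (fun G _ => Law G) (fun G _ _ H => Law.inj _ H.subtype_injective)
    (fun G _ _ N _ _ => Law.surj _ (QuotientGroup.mk'_surjective N)) ?_ G⟩
  intro G _ _ h c
  rcases ms G h with ⟨p, hp, F, _, _, hF, ⟨e⟩⟩ | ⟨p, hp, p2, F, _, _, hF, ⟨e⟩⟩ | ⟨p, hp, p5, F, _, _, hF, ⟨e⟩⟩ |
    ⟨F, _, _, hF, ⟨e⟩⟩ | ⟨hs, -⟩
  · haveI : CharP F 2 := charP_of_card_eq_prime_pow hF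
    have := Nat.pow_le_pow_right (n := 2) two_pos hp.two_le
    exact not_law_two (cv_two (by omega)) (c.surj e.toMonoidHom e.surjective)
  · haveI : Fact (Nat.Prime 3) := ⟨Nat.prime_three⟩
    haveI : CharP F 3 := charP_of_card_eq_prime_pow hF
    have := hp.two_le
    exact not_law_two (cv_three (by omega) hF) (c.surj e.toMonoidHom e.surjective)
  · haveI := Fact.mk hp
    haveI : CharP F p := charP_of_card_eq_prime hF
    exact not_law_two (cv_prime hp (by omega)) (c.surj e.toMonoidHom e.surjective)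
  · exact not_law_33 hF (c.surj e.toMonoidHom e.surjective)
  · exact not_law_sz (iso_sz hs (not_solv h)) c

end H10.BG
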